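import Groth.Agent.S3032
import Groth.Agent.Sga3C.LineStab
import Mathlib.LinearAlgebra.FreeModule.PID
import Mathlib.RingTheory.Flat.TorsionFree
import Mathlib.RingTheory.Bialgebra.Quotient
import Mathlib.RingTheory.PowerSeries.NoZeroDivisors
import Mathlib.RingTheory.PowerSeries.Inverse

/-!
# Chevalley's theorem over a principal ideal domain

Let `R` be a principal ideal domain, `A` a flat commutative Hopf algebra of finite type over `R` and `π : A → B` a
surjective map of bialgebras with `B` flat over `R`. Then there is a multiplicative matrix over `A` whose entries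
generate `A` and such that the kernel of `π` is generated by the entries of the first column except the
first one.
-/

set_option autoImplicit false

universe u v w

open TensorProduct HopfRep

namespace K190.ChevPID

open Groth.Agent.Sga3C.MatComod Groth.Agent.Sga3C.LineStab

section Mult

variable {R : Type u} {A : Type v} [CommRing R] [CommRing A] [Bialgebra R A]
variable {ι : Type w} [Fintype ι] [DecidableEq ι]

theorem isMult_iff (m : Matrix ι ι A) : IsMult R m ↔
    (Bialgebra.comulAlgHom R A).mapMatrix m =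
      (Algebra.TensorProduct.includeLeft : A →ₐ[R] A ⊗[R] A).mapMatrix m *
        (Algebra.TensorProduct.includeRight : A →ₐ[R] A ⊗[R] A).mapMatrix m ∧
    (Bialgebra.counitAlgHom R A).mapMatrix m = 1 := by
  constructor
  · intro h
    constructor
    · ext i j
      rw [Matrix.mul_apply]
      simp only [AlgHom.mapMatrix_apply, Matrix.map_apply, Bialgebra.comulAlgHom_apply, h.comul]
      simp
    · ext i j
      simp only [AlgHom.mapMatrix_apply, Matrix.map_apply, Bialgebra.counitAlgHom_apply, h.counit, Matrix.one_apply]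
  · rintro ⟨h1, h2⟩
    constructor
    · intro i j
      have h := congrFun (congrFun h1 i) j
      rw [Matrix.mul_apply] at h
      simp only [AlgHom.mapMatrix_apply, Matrix.map_apply, Bialgebra.comulAlgHom_apply] at h
      rw [h]
      simp
    · intro i j
      have h := congrFun (congrFun h2 i) j
      simpa [Matrix.one_apply] using h

theorem map_algebraMap {B : Type*} [CommRing B] [Algebra R B] (f : A →ₐ[R] B) (P : Matrix ι ι R) :
    f.mapMatrix ((Algebra.ofId R A).mapMatrix P) = (Algebra.ofId R B).mapMatrix P := by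
  ext i j
  simp [Algebra.ofId_apply]

/-- Change of basis. -/
theorem isMult_conj {m : Matrix ι ι A} (hm : IsMult R m) (P Q : Matrix ι ι R) (hQP : Q * P = 1) (hPQ : P * Q = 1) :
    IsMult R ((Algebra.ofId R A).mapMatrix Q * m * (Algebra.ofId R A).mapMatrix P : Matrix ι ι A) := by
  obtain ⟨h1, h2⟩ := (isMult_iff m).1 hm
  rw [isMult_iff]
  constructor
  · simp only [map_mul, map_algebraMap, h1]
    have h3 : (Algebra.ofId R (A ⊗[R] A)).mapMatrix P * (Algebra.ofId R (A ⊗[R] A)).mapMatrix Q = 1 := by
      rw [← map_mul, hPQ, map_one]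
    simp only [mul_assoc]
    congr 2
    rw [← mul_assoc _ ((Algebra.ofId R (A ⊗[R] A)).mapMatrix Q), h3, one_mul]
  · simp only [map_mul, map_algebraMap, h2, mul_one]
    rw [← map_mul, hQP, map_one]

/-- Direct sums. -/
theorem isMult_fromBlocks {κ : Type*} [Fintype κ] [DecidableEq κ] {m : Matrix ι ι A} (hm : IsMult R m)
    {n : Matrix κ κ A} (hn : IsMult R n) : IsMult R (Matrix.fromBlocks m 0 0 n) where
  comul := by
    rintro (i | i) (j | j) <;> simp [hm.comul, hn.comul, Fintype.sum_sum_type]
  counit := by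
    rintro (i | i) (j | j) <;> simp [hm.counit, hn.counit]

end Mult

section Adapted

variable {R : Type u} [CommRing R] [IsDomain R] [IsPrincipalIdealRing R]
variable {M : Type v} {M' : Type w} [AddCommGroup M] [Module R M] [AddCommGroup M'] [Module R M']

/-- A basis of a finitely generated submodule adapted to the kernel of a linear map to a torsion-free module. -/
theorem exists_adapted_basis [Module.IsTorsionFree R M] [Module.IsTorsionFree R M'] (N : Submodule R M)
    [Module.Finite R N] (p : M →ₗ[R] M') :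
    ∃ (d e : ℕ) (b : Module.Basis (Fin d ⊕ Fin e) R N), (∀ i, p (b (Sum.inl i) : M) = 0) ∧
      LinearIndependent R (fun i => p (b (Sum.inr i) : M)) ∧
      ∀ x ∈ N, p x = 0 → x ∈ Submodule.span R (Set.range fun i => (b (Sum.inl i) : M)) := by
  classical
  let f : N →ₗ[R] M' := p ∘ₗ N.subtype
  let K := LinearMap.ker f
  have : IsNoetherian R N := isNoetherian_of_isNoetherianRing_of_finite R N
  have : Module.Finite R K := inferInstance
  have : Module.Finite R (LinearMap.range f) := inferInstance
  have : Module.Free R K := inferInstance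
  have : Module.Free R (LinearMap.range f) := inferInstance
  let b₁ := Module.finBasis R K
  let b₂ := Module.finBasis R (LinearMap.range f)
  choose g hg using fun i => (b₂ i).2
  let v : Fin (Module.finrank R K) ⊕ Fin (Module.finrank R (LinearMap.range f)) → N :=
    Sum.elim (fun i => (b₁ i : N)) g
  have hker : ∀ i, f (b₁ i : N) = 0 := fun i => (b₁ i).2
  have hindR : LinearIndependent R (fun i => f (g i)) := by
    have h0 : (fun i => f (g i)) = fun i => ((b₂ i : LinearMap.range f) : M') := by
      funext i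
      exact hg i
    rw [h0]
    exact b₂.linearIndependent.map' (LinearMap.range f).subtype (Submodule.ker_subtype _)
  have hli : LinearIndependent R v := by
    rw [Fintype.linearIndependent_iff]
    intro c hc
    rw [Fintype.sum_sum_type] at hc
    simp only [v, Sum.elim_inl, Sum.elim_inr] at hc
    have h1 := congrArg f hc
    rw [map_add, map_sum, map_sum, map_zero] at h1
    simp only [map_smul, hker, smul_zero, Finset.sum_const_zero, zero_add] at h1
    have h2 := Fintype.linearIndependent_iff.1 hindR _ h1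
    simp only [h2, zero_smul, Finset.sum_const_zero, add_zero] at hc
    have h3 : LinearIndependent R (fun i => (b₁ i : N)) :=
      b₁.linearIndependent.map' K.subtype (Submodule.ker_subtype _)
    have h4 := Fintype.linearIndependent_iff.1 h3 _ hc
    rintro (i | i)
    · exact h4 i
    · exact h2 i
  have hK : ∀ x : N, f x = 0 → x ∈ Submodule.span R (Set.range fun i => (b₁ i : N)) := by
    intro x hx
    have h1 := b₁.sum_repr ⟨x, hx⟩
    have h2 := congrArg K.subtype h1
    rw [map_sum] at h2
    have h3 : x = ∑ i, b₁.repr ⟨x, hx⟩ i • (b₁ i : N) := by simpa using h2.symm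
    rw [h3]
    exact Submodule.sum_mem _ fun i _ => Submodule.smul_mem _ _ (Submodule.subset_span ⟨i, rfl⟩)
  have hspan : ⊤ ≤ Submodule.span R (Set.range v) := by
    intro x _
    have h1 := b₂.sum_repr ⟨f x, ⟨x, rfl⟩⟩
    have h2 := congrArg (LinearMap.range f).subtype h1
    rw [map_sum] at h2
    have h3 : f (x - ∑ i, b₂.repr ⟨f x, ⟨x, rfl⟩⟩ i • g i) = 0 := by
      rw [map_sub, map_sum, sub_eq_zero]
      simp only [map_smul, hg]
      simpa using h2.symm
    have h4 := hK _ h3
    have h5 : Submodule.span R (Set.range fun i => (b₁ i : N)) ≤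
        Submodule.span R (Set.range v) := by
      apply Submodule.span_mono
      rintro _ ⟨i, rfl⟩
      exact ⟨Sum.inl i, rfl⟩
    have h6 : ∑ i, b₂.repr ⟨f x, ⟨x, rfl⟩⟩ i • g i ∈ Submodule.span R (Set.range v) :=
      Submodule.sum_mem _ fun i _ => Submodule.smul_mem _ _
        (Submodule.subset_span ⟨Sum.inr i, rfl⟩)
    have h7 := Submodule.add_mem _ (h5 h4) h6
    simpa using h7
  refine ⟨_, _, Module.Basis.mk hli hspan, ?_, ?_, ?_⟩
  · intro i
    rw [Module.Basis.mk_apply]
    exact hker i
  · simp only [Module.Basis.mk_apply]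
    exact hindR
  · intro x hxV hxW
    have h1 : f ⟨x, hxV⟩ = 0 := hxW
    have h2 := hK _ h1
    have h3 := Submodule.mem_map_of_mem (f := N.subtype) h2
    rw [Submodule.map_span] at h3
    refine (Submodule.span_mono ?_) h3
    rintro _ ⟨_, ⟨i, rfl⟩, rfl⟩
    refine ⟨i, ?_⟩
    simp only [Module.Basis.mk_apply]
    rfl

/-- Coordinates of tensors with a flat module. -/
theorem eq_zero_of_sum_tmul {R : Type*} [CommRing R] {M : Type*} [AddCommGroup M] [Module R M]
    {X : Type*} [AddCommGroup X] [Module R X] [Module.Flat R X] {ι : Type*}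
    [Fintype ι] {w : ι → M} (hw : LinearIndependent R w) {a : ι → X} (h : ∑ i, w i ⊗ₜ[R] a i = 0) (i : ι) :
    a i = 0 := by
  classical
  have h1 : Function.Injective ((Finsupp.linearCombination R w).rTensor X) :=
    Module.Flat.rTensor_preserves_injective_linearMap _ hw
  have h2 : ∑ i, (Finsupp.single i (1 : R)) ⊗ₜ[R] a i = 0 := by
    apply h1
    rw [map_zero, map_sum, ← h]
    refine Finset.sum_congr rfl fun i _ => ?_
    rw [LinearMap.rTensor_tmul, Finsupp.linearCombination_single, one_smul]
  have h3 := congrArg (TensorProduct.lid R X) (congrArg ((Finsupp.lapply i : (ι →₀ R) →ₗ[R] R).rTensor X) h2)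
  rw [map_sum, map_sum, map_zero, map_zero] at h3
  simpa [Finsupp.single_apply] using h3

end Adapted

section Exists

theorem sum_tmul_coord {R : Type*} [CommRing R] {V : Type*} [AddCommGroup V] [Module R V] {X : Type*} [AddCommGroup X]
    [Module R X] {ι : Type*} [Fintype ι] (b : Module.Basis ι R V) (y : V ⊗[R] X) :
    y = ∑ i, b i ⊗ₜ[R] TensorProduct.lid R X ((b.coord i).rTensor X y) := by
  induction y with
  | zero => simp
  | tmul v a =>
    simp only [LinearMap.rTensor_tmul, TensorProduct.lid_tmul, Module.Basis.coord_apply]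
    conv_lhs => rw [← b.sum_repr v]
    rw [TensorProduct.sum_tmul]
    exact Finset.sum_congr rfl fun i _ => TensorProduct.smul_tmul _ _ _
  | add x y hx hy =>
    simp only [map_add, TensorProduct.tmul_add, Finset.sum_add_distrib]
    rw [← hx, ← hy]

/-- A matrix of coefficients of linearly independent elements of a flat bialgebra is multiplicative. -/
theorem isMult_of_comul {R : Type*} [CommRing R] {A : Type*} [CommRing A] [Bialgebra R A] [Module.Flat R A]
    {ι : Type*} [Fintype ι] [DecidableEq ι] {w : ι → A} (hw : LinearIndependent R w) (m : Matrix ι ι A)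
    (h : ∀ j, CoalgebraStruct.comul (R := R) (w j) = ∑ i, w i ⊗ₜ[R] m i j) : IsMult R m where
  comul := by
    intro l j
    have h1 := Coalgebra.coassoc_apply (R := R) (w j)
    rw [h j, map_sum, map_sum, map_sum] at h1
    simp only [LinearMap.rTensor_tmul, LinearMap.lTensor_tmul, h, TensorProduct.sum_tmul, map_sum,
      TensorProduct.assoc_tmul] at h1
    rw [Finset.sum_comm] at h1
    have h2 : ∑ i, w i ⊗ₜ[R] (CoalgebraStruct.comul (R := R) (m i j) - ∑ l, m i l ⊗ₜ[R] m l j) = 0 := by
      simp only [TensorProduct.tmul_sub, TensorProduct.tmul_sum, Finset.sum_sub_distrib]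
      rw [← h1, sub_self]
    exact sub_eq_zero.1 (eq_zero_of_sum_tmul hw h2 l)
  counit := by
    intro l j
    have h1 := Coalgebra.lTensor_counit_comul (R := R) (w j)
    rw [h j, map_sum] at h1
    simp only [LinearMap.lTensor_tmul] at h1
    have h2 := congrArg (TensorProduct.rid R A) h1
    rw [map_sum] at h2
    simp only [TensorProduct.rid_tmul, one_smul] at h2
    have h3 : ∑ i, (CoalgebraStruct.counit (R := R) (m i j) - if i = j then 1 else 0) • w i = 0 := by
      simp only [sub_smul, Finset.sum_sub_distrib, h2, ite_smul, one_smul, zero_smul, Finset.sum_ite_eq',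
        Finset.mem_univ, if_true, sub_self]
    by_cases hnt : Nontrivial R
    · exact sub_eq_zero.1 (linearIndependent_iff'.1 hw Finset.univ _ h3 l (Finset.mem_univ l))
    · rw [not_nontrivial_iff_subsingleton] at hnt
      exact Subsingleton.elim _ _

theorem exists_mult (R : Type u) [CommRing R] [IsDomain R] [IsPrincipalIdealRing R]
    (A : Type u) [CommRing A] [HopfAlgebra R A] [Module.Flat R A] [Algebra.FiniteType R A]
    (B : Type u) [CommRing B] [HopfAlgebra R B] [Module.Flat R B] (π : A →ₐc[R] B) :
    ∃ (d e : ℕ) (w : Fin d ⊕ Fin e → A) (m : Matrix (Fin d ⊕ Fin e) (Fin d ⊕ Fin e) A), IsMult R m ∧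
      (∀ j, CoalgebraStruct.comul (R := R) (w j) = ∑ i, w i ⊗ₜ[R] m i j) ∧ (∀ j, π (w (Sum.inl j)) = 0) ∧
      (∀ i j, π (m (Sum.inr i) (Sum.inl j)) = 0) ∧
      RingHom.ker π ≤ Ideal.span (Set.range fun j => w (Sum.inl j)) ∧ Algebra.adjoin R (Set.range w) = ⊤ := by
  classical
  have : IsNoetherianRing A := Algebra.FiniteType.isNoetherianRing R A
  obtain ⟨t, ht⟩ : (RingHom.ker π).FG := IsNoetherian.noetherian _
  obtain ⟨s, hs⟩ := (‹Algebra.FiniteType R A› : Algebra.FiniteType R A).out
  obtain ⟨N, hN, hle, hfg⟩ := Groth.Agent.S3032.result R A A (Submodule.span R ((s ∪ t : Finset A) : Set A))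
    (Submodule.fg_span (Finset.finite_toSet _))
  have : Module.Finite R N := Module.Finite.iff_fg.2 hfg
  obtain ⟨d, e, b, hb1, hb2, hb3⟩ := exists_adapted_basis N (π : A →ₗ[R] B)
  have hw : LinearIndependent R (fun i => (b i : A)) :=
    b.linearIndependent.map' N.subtype (Submodule.ker_subtype N)
  have hco : ∀ j, ∃ a : Fin d ⊕ Fin e → A,
      CoalgebraStruct.comul (R := R) (b j : A) = ∑ i, (b i : A) ⊗ₜ[R] a i := by
    intro j
    obtain ⟨y, hy⟩ := hN (b j : A) (b j).2
    refine ⟨fun i => TensorProduct.lid R A ((b.coord i).rTensor A y), ?_⟩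
    have h1 := congrArg (N.subtype.rTensor A) (sum_tmul_coord b y)
    rw [hy, map_sum] at h1
    exact h1
  choose a ha using hco
  have hm := isMult_of_comul hw (Matrix.of fun i j => a j i) ha
  refine ⟨d, e, fun i => (b i : A), Matrix.of fun i j => a j i, hm, ha, hb1, ?_, ?_, ?_⟩
  · intro i j
    have h1 : TensorProduct.map (π : A →ₗ[R] B) (π : A →ₗ[R] B)
        (CoalgebraStruct.comul (R := R) (b (Sum.inl j) : A)) = 0 := by
      have h2 := CoalgHomClass.map_comp_comul_apply π (b (Sum.inl j) : A)
      have h3 : π (b (Sum.inl j) : A) = 0 := hb1 j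
      rw [h3, map_zero] at h2
      exact h2
    rw [ha, map_sum, Fintype.sum_sum_type] at h1
    simp only [TensorProduct.map_tmul, hb1, TensorProduct.zero_tmul, Finset.sum_const_zero, zero_add] at h1
    exact eq_zero_of_sum_tmul hb2 h1 i
  · rw [← ht, Ideal.span_le]
    intro x hx
    have h1 : x ∈ N := hle (Submodule.subset_span (by simp [hx]))
    have h2 : π x = 0 := by
      have : x ∈ RingHom.ker π := by
        rw [← ht]
        exact Ideal.subset_span hx
      exact this
    have h3 := hb3 x h1 h2
    have h4 : Submodule.span R (Set.range fun i => (b (Sum.inl i) : A)) ≤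
        (Ideal.span (Set.range fun j => (b (Sum.inl j) : A))).restrictScalars R := by
      rw [Submodule.span_le]
      exact Ideal.subset_span
    exact h4 h3
  · rw [eq_top_iff, ← hs]
    apply Algebra.adjoin_le
    intro x hx
    have h1 : x ∈ N := hle (Submodule.subset_span (by simp [hx]))
    have h2 : x = ∑ i, b.repr ⟨x, h1⟩ i • (b i : A) := by
      have h3 := congrArg N.subtype (b.sum_repr ⟨x, h1⟩)
      rw [map_sum] at h3
      simpa using h3.symm
    rw [h2]
    refine Subalgebra.sum_mem _ fun i _ => Subalgebra.smul_mem _ (Algebra.subset_adjoin ?_) _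
    exact ⟨i, rfl⟩

end Exists

section Line

variable {R : Type u} {A : Type v} [CommRing R] [CommRing A] [HopfAlgebra R A]

theorem isUnit_det {ι : Type w} [Fintype ι] [DecidableEq ι] {m : Matrix ι ι A} (hm : IsMult R m) :
    IsUnit m.det := by
  have h1 : m * (Matrix.of fun i j => HopfAlgebraStruct.antipode R (m i j)) = 1 := by
    ext i j
    have h := LinearMap.congr_fun (HopfAlgebra.mul_antipode_lTensor_comul (R := R) (A := A)) (m i j)
    rw [LinearMap.comp_apply, LinearMap.comp_apply, hm.comul, map_sum, map_sum] at h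
    simp only [LinearMap.lTensor_tmul, LinearMap.mul'_apply] at h
    rw [LinearMap.comp_apply, hm.counit] at h
    rw [Matrix.mul_apply, Matrix.one_apply]
    simp only [Matrix.of_apply]
    rw [h]
    split_ifs <;> simp
  refine IsUnit.of_mul_eq_one (Matrix.of fun i j => HopfAlgebraStruct.antipode R (m i j)).det ?_
  rw [← Matrix.det_mul, h1, Matrix.det_one]

/-- Reindexing. -/
theorem finish {κ : Type w} [Fintype κ] [DecidableEq κ] (x₀ : κ) (M : Matrix κ κ A) (hM : IsMult R M)
    (hgen : Algebra.adjoin R (Set.range fun p : κ × κ => M p.1 p.2) = ⊤) (I : Ideal A)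
    (hI : I = Ideal.span (Set.range fun i : {i // i ≠ x₀} => M i.1 x₀)) :
    ∃ (d : ℕ) (hd : 0 < d) (a : Matrix (Fin d) (Fin d) A),
      (∀ i j, CoalgebraStruct.comul (R := R) (a i j) = ∑ l, a i l ⊗ₜ[R] a l j) ∧
      (∀ i j, CoalgebraStruct.counit (R := R) (a i j) = if i = j then 1 else 0) ∧
      (∃ u : A, u * a.det = 1 ∧
        Algebra.adjoin R (Set.range (fun p : Fin d × Fin d => a p.1 p.2) ∪ {u}) = ⊤) ∧
      I = Ideal.span (Set.range (fun i : {i : Fin d // i ≠ ⟨0, hd⟩} => a i.1 ⟨0, hd⟩)) := by
  classical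
  have hd : 0 < Fintype.card κ := Fintype.card_pos_iff.2 ⟨x₀⟩
  let σ₀ : κ ≃ Fin (Fintype.card κ) := Fintype.equivFin κ
  let σ : κ ≃ Fin (Fintype.card κ) := σ₀.trans (Equiv.swap (σ₀ x₀) ⟨0, hd⟩)
  have hσ : σ x₀ = ⟨0, hd⟩ := by simp [σ]
  have hσ' : σ.symm ⟨0, hd⟩ = x₀ := by rw [← hσ, Equiv.symm_apply_apply]
  let a : Matrix (Fin (Fintype.card κ)) (Fin (Fintype.card κ)) A := Matrix.of fun i j => M (σ.symm i) (σ.symm j)
  have ha : IsMult R a := by
    constructor
    · intro i j
      change CoalgebraStruct.comul (R := R) (M (σ.symm i) (σ.symm j)) = _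
      rw [hM.comul]
      exact (Equiv.sum_comp σ.symm (fun l => M (σ.symm i) l ⊗ₜ[R] M l (σ.symm j))).symm
    · intro i j
      change CoalgebraStruct.counit (R := R) (M (σ.symm i) (σ.symm j)) = _
      rw [hM.counit]
      simp
  refine ⟨_, hd, a, ha.comul, ha.counit, ?_, ?_⟩
  · obtain ⟨u, hu⟩ := (isUnit_det ha).exists_left_inv
    refine ⟨u, hu, ?_⟩
    rw [eq_top_iff, ← hgen]
    apply Algebra.adjoin_mono
    rintro _ ⟨p, rfl⟩
    refine Or.inl ⟨(σ p.1, σ p.2), ?_⟩
    simp [a]
  · rw [hI]
    congr 1
    ext x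
    constructor
    · rintro ⟨⟨i, hi⟩, rfl⟩
      refine ⟨⟨σ i, fun h => hi ?_⟩, ?_⟩
      · rw [← hσ] at h
        exact σ.injective h
      · simp [a, hσ']
    · rintro ⟨⟨i, hi⟩, rfl⟩
      refine ⟨⟨σ.symm i, fun h => hi ?_⟩, ?_⟩
      · rw [← hσ, ← h, Equiv.apply_symm_apply]
      · simp [a, hσ']

variable {d e : ℕ}

/-- The base change matrix. -/
noncomputable def E (R : Type u) [CommRing R] (d e : ℕ) :
    Matrix (Fin d → Fin d ⊕ Fin e) (Fin d → Fin d ⊕ Fin e) R := by
  classical
  exact Matrix.of fun f g => if g = (fun i => Sum.inl i) then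
    (alt R d e f - if f = (fun i => Sum.inl i) then 1 else 0) else 0

theorem E_mul_E : E R d e * E R d e = 0 := by
  classical
  ext f g
  rw [Matrix.mul_apply]
  simp only [E, Matrix.of_apply, Matrix.zero_apply]
  refine Finset.sum_eq_zero fun h _ => ?_
  by_cases h1 : h = (fun i => Sum.inl i)
  · subst h1
    simp [alt_inl]
  · simp [h1]

/-- The matrix of the tensor power in a basis containing the alternating vector. -/
noncomputable def T' (R : Type u) {A : Type v} [CommRing R] [CommRing A] [Algebra R A]
    (m : Matrix (Fin d ⊕ Fin e) (Fin d ⊕ Fin e) A) :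
    Matrix (Fin d → Fin d ⊕ Fin e) (Fin d → Fin d ⊕ Fin e) A :=
  (Algebra.ofId R A).mapMatrix (1 - E R d e) * (Matrix.of fun f g => ∏ i, m (f i) (g i)) *
    (Algebra.ofId R A).mapMatrix (1 + E R d e)

theorem isMult_T' {m : Matrix (Fin d ⊕ Fin e) (Fin d ⊕ Fin e) A} (hm : IsMult R m) : IsMult R (T' R m) := by
  refine isMult_conj (hm.tensorPow (κ := Fin d)) _ _ ?_ ?_
  · have := E_mul_E (R := R) (d := d) (e := e)
    noncomm_ring
    rw [this]
    simp
  · have := E_mul_E (R := R) (d := d) (e := e)
    noncomm_ring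
    rw [this]
    simp

theorem T'_col (m : Matrix (Fin d ⊕ Fin e) (Fin d ⊕ Fin e) A) (f : Fin d → Fin d ⊕ Fin e)
    (hf : f ≠ fun i => Sum.inl i) :
    T' R m f (fun i => Sum.inl i) = minor m f - alt A d e f * minor m (fun i => Sum.inl i) := by
  classical
  have h1 : ∀ f, ((Matrix.of fun f g => ∏ i, m (f i) (g i)) * (Algebra.ofId R A).mapMatrix (1 + E R d e) :
      Matrix (Fin d → Fin d ⊕ Fin e) (Fin d → Fin d ⊕ Fin e) A) f (fun i => Sum.inl i) = minor m f := by
    intro f
    refine Eq.trans ?_ (minor_eq (fun i j => m i j) f).symm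
    rw [Matrix.mul_apply]
    refine Finset.sum_congr rfl fun g _ => ?_
    have h2 : (Algebra.ofId R A).mapMatrix (1 + E R d e) g (fun i => Sum.inl i) = alt A d e g := by
      simp only [AlgHom.mapMatrix_apply, Matrix.map_apply, Matrix.add_apply, E, Matrix.of_apply, if_true,
        Matrix.one_apply, add_sub_cancel]
      exact algebraMap_alt g
    rw [h2, Matrix.of_apply, mul_comm]
  rw [T', mul_assoc, map_sub, map_one, sub_mul, one_mul, Matrix.sub_apply, h1, Matrix.mul_apply]
  congr 1
  rw [Finset.sum_eq_single (fun i => Sum.inl i)]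
  · rw [h1]
    congr 1
    simp only [AlgHom.mapMatrix_apply, Matrix.map_apply, E, Matrix.of_apply, if_true, if_neg hf, sub_zero]
    exact algebraMap_alt f
  · intro g _ hg
    have h3 : (Algebra.ofId R A).mapMatrix (E R d e) f g = 0 := by
      simp only [AlgHom.mapMatrix_apply, Matrix.map_apply, E, Matrix.of_apply, if_neg hg, map_zero]
    rw [h3, zero_mul]
  · simp

theorem map_minor {B : Type*} [CommRing B] (q : A →+* B) (m : Matrix (Fin d ⊕ Fin e) (Fin d ⊕ Fin e) A)
    (f : Fin d → Fin d ⊕ Fin e) : q (minor m f) = minor (fun i j => q (m i j)) f := by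
  change q (Matrix.det _) = Matrix.det _
  rw [RingHom.map_det]
  rfl

theorem map_alt {B : Type*} [CommRing B] (q : A →+* B) (f : Fin d → Fin d ⊕ Fin e) :
    q (alt A d e f) = alt B d e f := by
  let _ := q.toAlgebra
  exact algebraMap_alt f

end Line

/-- **Chevalley's theorem** over a principal ideal domain. -/
theorem main (R : Type u) [CommRing R] [IsDomain R] [IsPrincipalIdealRing R]
    (A : Type u) [CommRing A] [HopfAlgebra R A] [Module.Flat R A] [Algebra.FiniteType R A]
    (B : Type u) [CommRing B] [HopfAlgebra R B] [Module.Flat R B] (π : A →ₐc[R] B) :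
    ∃ (d : ℕ) (hd : 0 < d) (a : Matrix (Fin d) (Fin d) A),
      (∀ i j, CoalgebraStruct.comul (R := R) (a i j) = ∑ l, a i l ⊗ₜ[R] a l j) ∧
      (∀ i j, CoalgebraStruct.counit (R := R) (a i j) = if i = j then 1 else 0) ∧
      (∃ u : A, u * a.det = 1 ∧
        Algebra.adjoin R (Set.range (fun p : Fin d × Fin d => a p.1 p.2) ∪ {u}) = ⊤) ∧
      RingHom.ker π = Ideal.span (Set.range (fun i : {i : Fin d // i ≠ ⟨0, hd⟩} => a i.1 ⟨0, hd⟩)) := by
  classical
  obtain ⟨d, e, w, m, hm, hco, hw, hπm, hle, hgen⟩ := exists_mult R A B π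
  have hwm : ∀ j, w j = ∑ i, CoalgebraStruct.counit (R := R) (w i) • m i j := by
    intro j
    have h1 := Coalgebra.rTensor_counit_comul (R := R) (w j)
    rw [hco, map_sum] at h1
    have h2 := congrArg (TensorProduct.lid R A) h1
    rw [map_sum] at h2
    simpa using h2.symm
  have hε : ∀ j, CoalgebraStruct.counit (R := R) (w (Sum.inl j)) = 0 := by
    intro j
    rw [← CoalgHomClass.counit_comp_apply π, hw, map_zero]
  refine finish (Sum.inl (fun i => Sum.inl i)) (Matrix.fromBlocks (T' R m) 0 0 m)
    (isMult_fromBlocks (isMult_T' hm) hm) ?_ _ ?_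
  · rw [eq_top_iff, ← hgen]
    apply Algebra.adjoin_le
    rintro _ ⟨j, rfl⟩
    rw [hwm j]
    refine Subalgebra.sum_mem _ fun i _ => Subalgebra.smul_mem _ (Algebra.subset_adjoin ?_) _
    exact ⟨(Sum.inr i, Sum.inr j), rfl⟩
  · set J := Ideal.span (Set.range fun i : {i : (Fin d → Fin d ⊕ Fin e) ⊕ (Fin d ⊕ Fin e) //
        i ≠ Sum.inl (fun i => Sum.inl i)} =>
        Matrix.fromBlocks (T' R m) 0 0 m i.1 (Sum.inl (fun i => Sum.inl i))) with hJ
    apply le_antisymm
    · -- the block lies in `J`
      let q := Ideal.Quotient.mk J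
      have hmin : ∀ f, minor (fun i j => q (m i j)) f =
          alt (A ⧸ J) d e f * minor (fun i j => q (m i j)) (fun i => Sum.inl i) := by
        intro f
        by_cases hf : f = fun i => Sum.inl i
        · subst hf
          rw [alt_inl, one_mul]
        · rw [← map_minor, ← map_minor, ← map_alt q, ← map_mul, ← sub_eq_zero, ← map_sub]
          refine Ideal.Quotient.eq_zero_iff_mem.2 (Ideal.subset_span ⟨⟨Sum.inl f, ?_⟩, ?_⟩)
          · intro h
            exact hf (Sum.inl_injective h)
          · exact T'_col m f hf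
      have hNM : ∀ i j, ∑ l, q (HopfAlgebraStruct.antipode R (m i l)) * q (m l j) =
          if i = j then 1 else 0 := by
        intro i j
        have h1 := HopfAlgebra.mul_antipode_rTensor_comul_apply (R := R) (m i j)
        rw [hm.comul, hm.counit] at h1
        simp only [map_sum, LinearMap.rTensor_tmul, LinearMap.mul'_apply] at h1
        have h2 := congrArg q h1
        simp only [map_sum, map_mul] at h2
        rw [h2]
        split_ifs <;> simp
      have hblock : ∀ i j, m (Sum.inr i) (Sum.inl j) ∈ J := fun i j =>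
        Ideal.Quotient.eq_zero_iff_mem.1 (block_of_minor (fun i j => q (m i j))
          (fun i j => q (HopfAlgebraStruct.antipode R (m i j))) hNM _ hmin i j)
      refine hle.trans ?_
      rw [Ideal.span_le]
      rintro _ ⟨j, rfl⟩
      change w (Sum.inl j) ∈ J
      rw [hwm, Fintype.sum_sum_type]
      simp only [hε, zero_smul, Finset.sum_const_zero, zero_add]
      refine sum_mem fun i _ => ?_
      rw [Algebra.smul_def]
      exact Ideal.mul_mem_left _ _ (hblock i j)
    · rw [hJ, Ideal.span_le]
      rintro _ ⟨⟨(f | i), hi⟩, rfl⟩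
      · have hf : f ≠ fun i => Sum.inl i := fun h => hi (congrArg _ h)
        change π (T' R m f (fun i => Sum.inl i)) = 0
        rw [T'_col m f hf]
        change (π : A →+* B) _ = 0
        rw [map_sub, map_mul, map_minor, map_minor, map_alt, sub_eq_zero]
        exact minor_of_block _ hπm f
      · change π 0 = 0
        exact map_zero π

end K190.ChevPID
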