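import Groth.Prelude.Def_HopfRep
import Mathlib.Algebra.DirectSum.Module
import Mathlib.LinearAlgebra.DFinsupp
import Mathlib.LinearAlgebra.TensorProduct.Tower

/-!
# Decomposition of a comodule along a decomposition of the coalgebra

If `C` is the internal direct sum of subcoalgebras `D i` (over any commutative ring), every right
`C`-comodule is the internal direct sum of the subcomodules `V i` of vectors whose coaction lands in
`V ⊗ D i`.
-/

set_option autoImplicit false

universe u v w w' x

open TensorProduct HopfRep

noncomputable section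

namespace K190.CoalgDecomp

variable {R : Type u} {C : Type v} [CommRing R] [AddCommGroup C] [Module R C]

/-- The system of projections of an internal direct sum. -/
structure Projs {ι : Type w} (D : ι → Submodule R C) (e : ι → C →ₗ[R] C) : Prop where
  mem : ∀ i c, e i c ∈ D i
  id_of_mem : ∀ i, ∀ c ∈ D i, e i c = c
  zero_of_mem : ∀ i j, i ≠ j → ∀ c ∈ D j, e i c = 0
  sum : ∀ c, ∃ s : Finset ι, ∀ s' : Finset ι, s ⊆ s' → ∑ i ∈ s', e i c = c

theorem exists_projs {ι : Type w} (D : ι → Submodule R C) (hind : iSupIndep D)
    (htop : iSup D = ⊤) : ∃ e : ι → C →ₗ[R] C, Projs D e := by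
  classical
  have hI : DirectSum.IsInternal D :=
    DirectSum.isInternal_submodule_of_iSupIndep_of_iSup_eq_top hind htop
  let E : (DirectSum ι fun i => D i) ≃ₗ[R] C := LinearEquiv.ofBijective (DirectSum.coeLinearMap D) hI
  let e : ι → C →ₗ[R] C := fun i => (D i).subtype ∘ₗ DirectSum.component R ι (fun i => D i) i ∘ₗ
    E.symm.toLinearMap
  have hE : ∀ i (c : D i), E.symm (c : C) = DirectSum.lof R ι (fun i => D i) i c := by
    intro i c
    rw [LinearEquiv.symm_apply_eq]
    exact (DirectSum.coeLinearMap_lof D i c).symm
  refine ⟨e, ⟨fun i c => Subtype.property _, ?_, ?_, ?_⟩⟩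
  · intro i c hc
    have := hE i ⟨c, hc⟩
    simp only [e, LinearMap.comp_apply, LinearEquiv.coe_coe]
    rw [this, DirectSum.component.lof_self]
    rfl
  · intro i j hij c hc
    have := hE j ⟨c, hc⟩
    simp only [e, LinearMap.comp_apply, LinearEquiv.coe_coe]
    rw [this, DirectSum.component.of, dif_neg hij.symm]
    simp
  · intro c
    refine ⟨(E.symm c).support, fun s' hs' => ?_⟩
    have h1 : ∑ i ∈ s', e i c = ∑ i ∈ (E.symm c).support, e i c := by
      refine (Finset.sum_subset hs' fun i _ hi => ?_).symm
      rw [DFinsupp.notMem_support_iff] at hi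
      simp only [e, LinearMap.comp_apply, LinearEquiv.coe_coe]
      change ((E.symm c) i : C) = 0
      rw [hi]
      rfl
    rw [h1]
    conv_rhs => rw [← E.apply_symm_apply c]
    change _ = DirectSum.coeLinearMap D (E.symm c)
    rw [DirectSum.coeLinearMap_eq_dfinsuppSum]
    rfl

variable [Coalgebra R C]

section

variable {ι : Type w} {D : ι → Submodule R C} {e : ι → C →ₗ[R] C}

lemma comul_e (he : Projs D e) (htop : iSup D = ⊤)
    (hD : ∀ i, ∀ d ∈ D i, CoalgebraStruct.comul (R := R) d ∈
      LinearMap.range (TensorProduct.map (D i).subtype (D i).subtype)) (i : ι) :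
    (e i).lTensor C ∘ₗ CoalgebraStruct.comul (R := R) = CoalgebraStruct.comul (R := R) ∘ₗ e i ∧
    (e i).rTensor C ∘ₗ CoalgebraStruct.comul (R := R) = CoalgebraStruct.comul (R := R) ∘ₗ e i := by
  have key : ∀ j, ∀ d ∈ D j, (e i).lTensor C (CoalgebraStruct.comul (R := R) d) =
      CoalgebraStruct.comul (R := R) (e i d) ∧ (e i).rTensor C (CoalgebraStruct.comul (R := R) d) =
      CoalgebraStruct.comul (R := R) (e i d) := by
    intro j d hd
    obtain ⟨y, hy⟩ := hD j d hd
    by_cases hij : i = j
    · subst hij
      rw [he.id_of_mem i d hd, ← hy]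
      constructor
      · clear hy
        induction y using TensorProduct.induction_on with
        | zero => simp
        | add a b ha hb => simp only [map_add, ha, hb]
        | tmul a b => simp [he.id_of_mem i b b.2]
      · clear hy
        induction y using TensorProduct.induction_on with
        | zero => simp
        | add a b ha hb => simp only [map_add, ha, hb]
        | tmul a b => simp [he.id_of_mem i a a.2]
    · rw [he.zero_of_mem i j hij d hd, map_zero, ← hy]
      constructor
      · clear hy
        induction y using TensorProduct.induction_on with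
        | zero => simp
        | add a b ha hb => simp only [map_add, ha, hb, add_zero]
        | tmul a b => simp [he.zero_of_mem i j hij b b.2]
      · clear hy
        induction y using TensorProduct.induction_on with
        | zero => simp
        | add a b ha hb => simp only [map_add, ha, hb, add_zero]
        | tmul a b => simp [he.zero_of_mem i j hij a a.2]
  constructor
  · apply LinearMap.ext
    intro c
    have hc : c ∈ iSup D := by rw [htop]; trivial
    induction hc using Submodule.iSup_induction' with
    | mem j x hx => exact (key j x hx).1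
    | zero => simp
    | add x y _ _ hx hy => rw [map_add, map_add, hx, hy]
  · apply LinearMap.ext
    intro c
    have hc : c ∈ iSup D := by rw [htop]; trivial
    induction hc using Submodule.iSup_induction' with
    | mem j x hx => exact (key j x hx).2
    | zero => simp
    | add x y _ _ hx hy => rw [map_add, map_add, hx, hy]

variable {V : Type w'} [AddCommGroup V] [Module R V] [Comod R C V]

/-- The subcomodule of vectors with coaction in `V ⊗ D i`. -/
def comp (D : Submodule R C) (V : Type w') [AddCommGroup V] [Module R V] [Comod R C V] :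
    Submodule R V :=
  (LinearMap.range (LinearMap.lTensor V D.subtype)).comap (Comod.coact (k := R) (A := C) (V := V))

/-- The operator `v ↦ ∑ ε(e(v₁)) v₀`. -/
def act (e : C →ₗ[R] C) (V : Type w') [AddCommGroup V] [Module R V] [Comod R C V] : V →ₗ[R] V :=
  (TensorProduct.rid R V).toLinearMap ∘ₗ
    ((CoalgebraStruct.counit (R := R) (A := C)) ∘ₗ e).lTensor V ∘ₗ Comod.coact (k := R) (A := C)

lemma coact_inj {v w : V} (h : Comod.coact (k := R) (A := C) v = Comod.coact (k := R) (A := C) w) :
    v = w := by
  have h1 := LinearMap.congr_fun (Comod.counit_comp (k := R) (A := C) (V := V)) v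
  have h2 := LinearMap.congr_fun (Comod.counit_comp (k := R) (A := C) (V := V)) w
  simp only [LinearMap.comp_apply, LinearMap.flip_apply, TensorProduct.mk_apply] at h1 h2
  rw [h, h2] at h1
  have := congrArg (TensorProduct.rid R V) h1
  simpa using this.symm

omit [Coalgebra R C] [Comod R C V] in
lemma lTensor_mem_iff (he : Projs D e) (i : ι) (x : V ⊗[R] C) :
    x ∈ LinearMap.range (LinearMap.lTensor V (D i).subtype) ↔ (e i).lTensor V x = x := by
  constructor
  · rintro ⟨y, rfl⟩
    induction y using TensorProduct.induction_on with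
    | zero => simp
    | add a b ha hb => simp only [map_add, ha, hb]
    | tmul a b => simp [he.id_of_mem i b b.2]
  · intro h
    rw [← h]
    refine ⟨((e i).codRestrict (D i) (he.mem i)).lTensor V x, ?_⟩
    rw [← LinearMap.lTensor_comp_apply]
    rfl

lemma coact_act (i : ι)
    (h : (e i).lTensor C ∘ₗ CoalgebraStruct.comul (R := R) = CoalgebraStruct.comul (R := R) ∘ₗ e i)
    (v : V) : Comod.coact (k := R) (A := C) (act (e i) V v) =
      (e i).lTensor V (Comod.coact (k := R) (A := C) v) := by
  have h1 : ∀ z : V ⊗[R] C, Comod.coact (k := R) (A := C) (TensorProduct.rid R V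
      (((CoalgebraStruct.counit (R := R) (A := C)) ∘ₗ e i).lTensor V z)) =
      (TensorProduct.rid R C).toLinearMap.lTensor V
        (((CoalgebraStruct.counit (R := R) (A := C)) ∘ₗ e i).lTensor C |>.lTensor V
        (TensorProduct.assoc R V C C ((Comod.coact (k := R) (A := C)).rTensor C z))) := by
    intro z
    induction z using TensorProduct.induction_on with
    | zero => simp
    | add a b ha hb => simp only [map_add, ha, hb]
    | tmul v c =>
      simp only [LinearMap.lTensor_tmul, TensorProduct.rid_tmul, map_smul,
        LinearMap.rTensor_tmul]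
      generalize Comod.coact (k := R) (A := C) v = t
      induction t using TensorProduct.induction_on with
      | zero => simp
      | add a b ha hb => simp only [smul_add, ha, hb, map_add, TensorProduct.add_tmul]
      | tmul w d => simp
  have h2 := LinearMap.congr_fun (Comod.coassoc (k := R) (A := C) (V := V)) v
  simp only [LinearMap.comp_apply, LinearEquiv.coe_coe] at h2
  rw [act, LinearMap.comp_apply, LinearMap.comp_apply, LinearEquiv.coe_coe, h1, h2,
    ← LinearMap.lTensor_comp_apply, ← LinearMap.lTensor_comp_apply]
  congr 2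
  have h3 : ((CoalgebraStruct.counit (R := R) (A := C)) ∘ₗ e i).lTensor C ∘ₗ
      CoalgebraStruct.comul (R := R) =
      (CoalgebraStruct.counit (R := R) (A := C)).lTensor C ∘ₗ
        (CoalgebraStruct.comul (R := R) ∘ₗ e i) := by
    rw [← h, LinearMap.lTensor_comp, LinearMap.comp_assoc]
  rw [LinearMap.comp_assoc, h3]
  apply LinearMap.ext
  intro c
  simp only [LinearMap.comp_apply, LinearEquiv.coe_coe]
  rw [Coalgebra.lTensor_counit_comul]
  simp

lemma rTensor_act (f : C →ₗ[R] C)
    (h : f.rTensor C ∘ₗ CoalgebraStruct.comul (R := R) = CoalgebraStruct.comul (R := R) ∘ₗ f)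
    (v : V) : (act f V).rTensor C (Comod.coact (k := R) (A := C) v) =
      f.lTensor V (Comod.coact (k := R) (A := C) v) := by
  have h1 : ∀ z : (V ⊗[R] C) ⊗[R] C, ((TensorProduct.rid R V).toLinearMap ∘ₗ
      ((CoalgebraStruct.counit (R := R) (A := C)) ∘ₗ f).lTensor V).rTensor C z =
      (TensorProduct.lid R C).toLinearMap.lTensor V
        (((CoalgebraStruct.counit (R := R) (A := C)) ∘ₗ f).rTensor C |>.lTensor V
        (TensorProduct.assoc R V C C z)) := by
    intro z
    induction z using TensorProduct.induction_on with
    | zero => simp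
    | add a b ha hb => simp only [map_add, ha, hb]
    | tmul t d =>
      induction t using TensorProduct.induction_on with
      | zero => simp
      | add a b ha hb => simp only [map_add, ha, hb, TensorProduct.add_tmul]
      | tmul w c => simp [TensorProduct.smul_tmul]
  have h2 := LinearMap.congr_fun (Comod.coassoc (k := R) (A := C) (V := V)) v
  simp only [LinearMap.comp_apply, LinearEquiv.coe_coe] at h2
  have h0 : act f V = ((TensorProduct.rid R V).toLinearMap ∘ₗ
      ((CoalgebraStruct.counit (R := R) (A := C)) ∘ₗ f).lTensor V) ∘ₗ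
        Comod.coact (k := R) (A := C) := rfl
  rw [h0, LinearMap.rTensor_comp_apply, h1, h2,
    ← LinearMap.lTensor_comp_apply, ← LinearMap.lTensor_comp_apply]
  congr 2
  have h3 : ((CoalgebraStruct.counit (R := R) (A := C)) ∘ₗ f).rTensor C ∘ₗ
      CoalgebraStruct.comul (R := R) =
      (CoalgebraStruct.counit (R := R) (A := C)).rTensor C ∘ₗ
        (CoalgebraStruct.comul (R := R) ∘ₗ f) := by
    rw [← h, LinearMap.rTensor_comp, LinearMap.comp_assoc]
  rw [LinearMap.comp_assoc, h3]
  apply LinearMap.ext
  intro c
  simp only [LinearMap.comp_apply, LinearEquiv.coe_coe]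
  rw [Coalgebra.rTensor_counit_comul]
  simp

/-- The decomposition theorem. -/
theorem decomposition (D : ι → Submodule R C)
    (hD : ∀ i, ∀ d ∈ D i, CoalgebraStruct.comul (R := R) d ∈
      LinearMap.range (TensorProduct.map (D i).subtype (D i).subtype))
    (hind : iSupIndep D) (htop : iSup D = ⊤) :
    (∀ i, IsSubcomod (k := R) (A := C) (comp (D i) V)) ∧
    iSupIndep (fun i => comp (D i) V) ∧
    (⨆ i, comp (D i) V) = ⊤ ∧
    ∀ i, ∀ v ∈ comp (D i) V, Comod.coact (k := R) (A := C) v ∈
        LinearMap.range (TensorProduct.map (comp (D i) V).subtype (D i).subtype) := by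
  classical
  obtain ⟨e, he⟩ := exists_projs D hind htop
  have hmem : ∀ i v, v ∈ comp (D i) V ↔ act (e i) V v = v := by
    intro i v
    rw [comp, Submodule.mem_comap, lTensor_mem_iff he, ← coact_act i (comul_e he htop hD i).1]
    exact ⟨fun h => coact_inj h, fun h => by rw [h]⟩
  have hee : ∀ i c, e i (e i c) = e i c := fun i c => he.id_of_mem i _ (he.mem i c)
  have hact_mem : ∀ i v, act (e i) V v ∈ comp (D i) V := by
    intro i v
    rw [comp, Submodule.mem_comap, lTensor_mem_iff he, coact_act i (comul_e he htop hD i).1,
      ← LinearMap.lTensor_comp_apply]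
    congr 2
    ext c
    exact hee i c
  have hzero : ∀ i j, i ≠ j → ∀ v ∈ comp (D j) V, act (e i) V v = 0 := by
    intro i j hij v hv
    apply coact_inj (R := R) (C := C)
    rw [coact_act i (comul_e he htop hD i).1, map_zero,
      ← (lTensor_mem_iff he j _).1 hv, ← LinearMap.lTensor_comp_apply]
    have : e i ∘ₗ e j = 0 := by
      ext c
      exact he.zero_of_mem i j hij _ (he.mem j c)
    rw [this]
    simp
  have h4 : ∀ i, ∀ v ∈ comp (D i) V, Comod.coact (k := R) (A := C) v ∈
        LinearMap.range (TensorProduct.map (comp (D i) V).subtype (D i).subtype) := by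
    intro i v hv
    refine ⟨TensorProduct.map ((act (e i) V).codRestrict _ (hact_mem i))
      ((e i).codRestrict (D i) (he.mem i)) (Comod.coact (k := R) (A := C) v), ?_⟩
    rw [← LinearMap.comp_apply, ← TensorProduct.map_comp, LinearMap.subtype_comp_codRestrict,
      LinearMap.subtype_comp_codRestrict, ← LinearMap.lTensor_comp_rTensor, LinearMap.comp_apply,
      rTensor_act _ (comul_e he htop hD i).2, ← LinearMap.lTensor_comp_apply]
    have : e i ∘ₗ e i = e i := by
      ext c
      exact hee i c
    rw [this]
    exact (lTensor_mem_iff he i _).1 hv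
  refine ⟨fun i v hv => ?_, ?_, ?_, h4⟩
  · obtain ⟨y, hy⟩ := h4 i v hv
    refine ⟨(D i).subtype.lTensor _ y, ?_⟩
    rw [← hy, ← LinearMap.comp_apply, LinearMap.rTensor_comp_lTensor]
  · rw [iSupIndep_def]
    intro i
    rw [Submodule.disjoint_def]
    intro v hv hv'
    rw [← (hmem i v).1 hv]
    have hle : (⨆ j, ⨆ (_ : j ≠ i), comp (D j) V) ≤ LinearMap.ker (act (e i) V) := by
      refine iSup₂_le fun j hj => ?_
      intro w hw
      exact hzero i j hj.symm w hw
    exact hle hv'
  · rw [eq_top_iff]
    intro v _
    -- finitely many projections suffice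
    have hs : ∀ x : V ⊗[R] C, ∃ s : Finset ι, ∀ s' : Finset ι, s ⊆ s' →
        ∑ i ∈ s', (e i).lTensor V x = x := by
      intro x
      induction x using TensorProduct.induction_on with
      | zero => exact ⟨∅, fun s' _ => by simp⟩
      | add a b ha hb =>
        obtain ⟨s, hs⟩ := ha
        obtain ⟨t, ht⟩ := hb
        refine ⟨s ∪ t, fun s' hs' => ?_⟩
        simp only [map_add, Finset.sum_add_distrib]
        rw [hs s' (Finset.union_subset_left hs'), ht s' (Finset.union_subset_right hs')]
      | tmul v c =>
        obtain ⟨s, hs⟩ := he.sum c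
        refine ⟨s, fun s' hs' => ?_⟩
        simp only [LinearMap.lTensor_tmul]
        rw [← TensorProduct.tmul_sum, hs s' hs']
    obtain ⟨s, hs⟩ := hs (Comod.coact (k := R) (A := C) v)
    have hv : v = ∑ i ∈ s, act (e i) V v := by
      apply coact_inj (R := R) (C := C)
      rw [map_sum, ← hs s (Finset.Subset.refl s)]
      refine Finset.sum_congr rfl fun i _ => ?_
      rw [coact_act i (comul_e he htop hD i).1]
    rw [hv]
    exact Submodule.sum_mem _ fun i _ =>
      (le_iSup (fun i => comp (D i) V) i) (hact_mem i v)

end

end K190.CoalgDecomp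

end
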