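import Groth.Agent.HopfRep.K192.DualMod2

/-!
# Subcoalgebras and isotypic components

Over a field, the subcoalgebras of `C` are the fully invariant submodules of the regular comodule
`C` (viewed as a module over the dual algebra).  If the regular comodule is semisimple, `C` is the
direct sum of simple subcoalgebras, namely the isotypic components.
-/

set_option autoImplicit false

universe u v w w' w''

open TensorProduct HopfRep

noncomputable section

namespace K190.Cosemi

open Groth.Agent.Books.ComodBasic Groth.Agent.Books.ComodHom K192.DualMod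

variable {K : Type u} {C : Type v} [Field K] [AddCommGroup C] [Module K C]

section Tensor

variable {V : Type w} [AddCommGroup V] [Module K V]

omit [AddCommGroup C] [Module K C] in
/-- A subspace has a projection onto it. -/
lemma exists_proj (B : Submodule K V) :
    ∃ p : V →ₗ[K] B, p ∘ₗ B.subtype = LinearMap.id := by
  obtain ⟨p, hp⟩ := B.subtype.exists_leftInverse_of_injective (LinearMap.ker_eq_bot.2 B.injective_subtype)
  exact ⟨p, hp⟩

/-- Membership in `V ⊗ D` tested by linear forms on `V`. -/
lemma mem_range_lTensor_iff (D : Submodule K C) (x : V ⊗[K] C) :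
    x ∈ LinearMap.range (LinearMap.lTensor V D.subtype) ↔
      ∀ φ : V →ₗ[K] K, TensorProduct.lid K C (φ.rTensor C x) ∈ D := by
  constructor
  · rintro ⟨y, rfl⟩ φ
    induction y using TensorProduct.induction_on with
    | zero => simp
    | add a b ha hb =>
      simp only [map_add]
      exact D.add_mem ha hb
    | tmul v d =>
      simp only [LinearMap.lTensor_tmul, LinearMap.rTensor_tmul, TensorProduct.lid_tmul]
      exact D.smul_mem _ d.2
  · intro h
    let b := Module.Basis.ofVectorSpace K V
    -- write `x = ∑ b i ⊗ c i`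
    obtain ⟨s, c, rfl⟩ : ∃ (s : Finset (Module.Basis.ofVectorSpaceIndex K V))
        (c : Module.Basis.ofVectorSpaceIndex K V → C), x = ∑ i ∈ s, b i ⊗ₜ[K] c i := by
      classical
      let e := TensorProduct.equivFinsuppOfBasisLeft (N := C) b
      refine ⟨(e x).support, fun i => e x i, ?_⟩
      have := e.symm_apply_apply x
      rw [← this]
      simp only [LinearEquiv.apply_symm_apply]
      conv_lhs => rw [TensorProduct.equivFinsuppOfBasisLeft_symm_apply]
      rfl
    refine Submodule.sum_mem _ fun i hi => ?_
    have h1 := h (b.coord i)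
    rw [map_sum, map_sum, Finset.sum_eq_single i] at h1
    · simp only [LinearMap.rTensor_tmul, Module.Basis.coord_apply, Module.Basis.repr_self,
        Finsupp.single_eq_same, TensorProduct.lid_tmul, one_smul] at h1
      exact ⟨b i ⊗ₜ ⟨c i, h1⟩, by simp⟩
    · intro j _ hj
      simp [hj]
    · intro h
      exact absurd hi h

/-- `B ⊗ B` is the intersection of `B ⊗ C` and `C ⊗ B`. -/
lemma mem_range_map_iff (B : Submodule K C) (x : C ⊗[K] C) :
    x ∈ LinearMap.range (TensorProduct.map B.subtype B.subtype) ↔
      x ∈ LinearMap.range (B.subtype.rTensor C) ∧ x ∈ LinearMap.range (B.subtype.lTensor C) := by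
  constructor
  · rintro ⟨y, rfl⟩
    refine ⟨⟨(B.subtype.lTensor B) y, ?_⟩, ⟨(B.subtype.rTensor B) y, ?_⟩⟩
    · rw [← LinearMap.comp_apply, LinearMap.rTensor_comp_lTensor]
    · rw [← LinearMap.comp_apply, LinearMap.lTensor_comp_rTensor]
  · rintro ⟨⟨y, hy⟩, ⟨z, hz⟩⟩
    obtain ⟨p, hp⟩ := exists_proj B
    have h1 : (B.subtype ∘ₗ p).rTensor C x = x := by
      rw [← hy, ← LinearMap.rTensor_comp_apply, LinearMap.comp_assoc, hp, LinearMap.comp_id]
    have h2 : (B.subtype ∘ₗ p).lTensor C x = x := by
      rw [← hz, ← LinearMap.lTensor_comp_apply, LinearMap.comp_assoc, hp, LinearMap.comp_id]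
    refine ⟨TensorProduct.map p p x, ?_⟩
    rw [← LinearMap.comp_apply, ← TensorProduct.map_comp, ← LinearMap.rTensor_comp_lTensor,
      LinearMap.comp_apply, h2, h1]

end Tensor

variable [Coalgebra K C]

/-- A subspace is a subcoalgebra. -/
def IsSubcoalg (B : Submodule K C) : Prop :=
  ∀ b ∈ B, CoalgebraStruct.comul (R := K) b ∈ LinearMap.range (TensorProduct.map B.subtype B.subtype)

lemma isSubcoalg_iff (B : Submodule K C) :
    IsSubcoalg B ↔ IsSubcomod (k := K) (A := C) B ∧
      ∀ φ : C →ₗ[K] K, ∀ b ∈ B, coeffMap C φ b ∈ B := by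
  constructor
  · intro h
    refine ⟨fun b hb => ((mem_range_map_iff B _).1 (h b hb)).1, fun φ b hb => ?_⟩
    exact (mem_range_lTensor_iff B _).1 ((mem_range_map_iff B _).1 (h b hb)).2 φ
  · rintro ⟨h1, h2⟩ b hb
    refine (mem_range_map_iff B _).2 ⟨h1 b hb, (mem_range_lTensor_iff B _).2 fun φ => ?_⟩
    exact h2 φ b hb

/-- Comodule endomorphisms of the regular comodule are given by linear forms. -/
lemma eq_coeffMap {f : C →ₗ[K] C} (hf : IsComodHom K C f) :
    f = coeffMap C ((CoalgebraStruct.counit (R := K)) ∘ₗ f) := by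
  apply LinearMap.ext
  intro c
  have hsep : ∀ x y : C, (∀ ψ : C →ₗ[K] K, ψ x = ψ y) → x = y := by
    intro x y h
    rw [← sub_eq_zero]
    apply (Module.forall_dual_apply_eq_zero_iff K (x - y)).1
    intro ψ
    rw [map_sub, h ψ, sub_self]
  apply hsep
  intro ψ
  rw [apply_coeffMap, LinearMap.comp_apply, hf.map_dact]
  -- `ψ x = ε (dact ψ x)`
  have hreg : ∀ x : C, CoalgebraStruct.counit (R := K) (dact C ψ x) = ψ x := by
    intro x
    rw [dact_apply]
    have h1 : (CoalgebraStruct.counit (R := K) (A := C)) ∘ₗ slice C ψ =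
        ψ ∘ₗ (TensorProduct.lid K C).toLinearMap ∘ₗ
          (CoalgebraStruct.counit (R := K) (A := C)).rTensor C := by
      ext a b
      simp [mul_comm]
    have h2 := LinearMap.congr_fun h1 (CoalgebraStruct.comul (R := K) x)
    have h3 := Coalgebra.rTensor_counit_comul (R := K) x
    simp only [LinearMap.comp_apply, LinearEquiv.coe_coe] at h2
    rw [h3] at h2
    change CoalgebraStruct.counit (R := K) (slice C ψ (CoalgebraStruct.comul (R := K) x)) = ψ x
    simpa using h2
  rw [hreg]

/-- Subcoalgebras are the fully invariant submodules of the regular comodule. -/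
theorem isFullyInvariant_iff (N : Submodule (Dl K C) (DM K C C)) :
    N.IsFullyInvariant ↔ IsSubcoalg (ofSub N) := by
  rw [isSubcoalg_iff]
  constructor
  · intro h
    refine ⟨isSubcomod_ofSub N, fun φ b hb => ?_⟩
    exact h (toHom (coeffMap C φ) ((isComodHom_iff _).2 (isComodHom_coeffMap φ))) hb
  · rintro ⟨-, h2⟩ f b hb
    have hf : IsComodHom K C (ofHom f) := (isComodHom_iff _).1 (isComodHom_ofHom f)
    have h3 := eq_coeffMap hf
    have h4 : ofHom f b = coeffMap C ((CoalgebraStruct.counit (R := K)) ∘ₗ ofHom f) b :=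
      LinearMap.congr_fun h3 b
    change ofHom f b ∈ ofSub N
    rw [h4]
    exact h2 _ b hb

/-- A simple subcoalgebra. -/
def IsSimpleSubcoalg (D : Submodule K C) : Prop :=
  D ≠ ⊥ ∧ IsSubcoalg D ∧ ∀ B : Submodule K C, B ≤ D → IsSubcoalg B → B = ⊥ ∨ B = D

/-- If the regular comodule is semisimple, its isotypic components are simple subcoalgebras. -/
theorem isSimpleSubcoalg_of_mem [IsSemisimpleModule (Dl K C) (DM K C C)]
    {m : Submodule (Dl K C) (DM K C C)} (hm : m ∈ isotypicComponents (Dl K C) (DM K C C)) :
    IsSimpleSubcoalg (ofSub m) := by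
  refine ⟨?_, (isFullyInvariant_iff m).1 (.of_mem_isotypicComponents hm), fun B hB hBc => ?_⟩
  · intro h
    exact (bot_lt_isotypicComponents hm).ne' (ofSub_injective h)
  · have hsub := ((isSubcoalg_iff B).1 hBc).1
    have hfi : (toSub B hsub).IsFullyInvariant := (isFullyInvariant_iff _).2 hBc
    obtain ⟨s, hs, hse⟩ := isFullyInvariant_iff_sSup_isotypicComponents.1 hfi
    have hle : ∀ c ∈ s, c = m := by
      intro c hc
      by_contra hne
      have hcm : c ≤ m := by
        have h1 : c ≤ toSub B hsub := hse ▸ le_sSup hc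
        exact h1.trans (fun v hv => hB hv)
      have hind := sSupIndep_isotypicComponents (Dl K C) (DM K C C) (hs hc)
      have hmem : m ∈ isotypicComponents (Dl K C) (DM K C C) \ {c} :=
        ⟨hm, fun h => hne (Set.mem_singleton_iff.1 h).symm⟩
      have h2 : Disjoint c m := hind.mono_right (le_sSup hmem)
      have h3 : c = ⊥ := by
        rw [← le_bot_iff]
        exact h2 le_rfl hcm
      exact (bot_lt_isotypicComponents (hs hc)).ne' h3
    rcases s.eq_empty_or_nonempty with h | ⟨c, hc⟩
    · left
      rw [h, sSup_empty] at hse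
      exact congrArg ofSub hse
    · right
      have h4 : toSub B hsub = m := by
        rw [hse]
        apply le_antisymm
        · exact sSup_le fun c hc => (hle c hc).le
        · rw [← hle c hc]
          exact le_sSup hc
      exact congrArg ofSub h4

/-- If the regular comodule is semisimple, `C` is the direct sum of simple subcoalgebras. -/
theorem exists_decomposition (h : IsSemisimpleComod K C C) :
    ∃ (ι : Type v) (D : ι → Submodule K C), iSupIndep D ∧ iSup D = ⊤ ∧
      ∀ i, IsSimpleSubcoalg (D i) := by
  have hss : IsSemisimpleModule (Dl K C) (DM K C C) := (isSemisimpleComod_iff K C C).1 h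
  refine ⟨isotypicComponents (Dl K C) (DM K C C), fun i => ofSub i.1, ?_, ?_, fun i =>
    isSimpleSubcoalg_of_mem i.2⟩
  · rw [iSupIndep_ofSub]
    exact (sSupIndep_iff _).1 (sSupIndep_isotypicComponents (Dl K C) (DM K C C))
  · rw [← ofSub_iSup, ← sSup_eq_iSup', sSup_isotypicComponents, ofSub_top]

end K190.Cosemi

end
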