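import Groth.Agent.HopfRep.K190.Cosemi

/-!
# Simple coalgebras and isotypic comodules; simple comodules with the same coefficients
-/

set_option autoImplicit false

universe u v w w' w''

open TensorProduct HopfRep

noncomputable section

namespace K190.Isotyp

open Groth.Agent.Books.ComodBasic Groth.Agent.Books.ComodHom K192.DualMod K190.Cosemi

variable {K : Type u} {C : Type v} [Field K] [AddCommGroup C] [Module K C] [Coalgebra K C]

section Sub

variable {V : Type w} [AddCommGroup V] [Module K V] [Comod K C V]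

/-- A submodule over the dual algebra, with its comodule structure. -/
@[reducible] def comodOf (N : Submodule (Dl K C) (DM K C V)) : Comod K C (ofSub N) :=
  subComod (ofSub N) (isSubcomod_ofSub N)

/-- The comodule attached to a submodule over the dual algebra, as a module, is that submodule. -/
def equivSub (N : Submodule (Dl K C) (DM K C V)) :
    letI := comodOf N
    DM K C (ofSub N) ≃ₗ[Dl K C] N :=
  letI := comodOf N
  LinearEquiv.ofBijective
    ((toHom (ofSub N).subtype ((isComodHom_iff _).2
      (isComodHom_subtype (ofSub N) (isSubcomod_ofSub N)))).codRestrict N (fun x => x.2))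
    (by
      constructor
      · intro x y h
        have := congrArg Subtype.val h
        exact Subtype.ext this
      · intro y
        exact ⟨⟨y.1, y.2⟩, rfl⟩)

lemma isSimpleComod_of (N : Submodule (Dl K C) (DM K C V)) [IsSimpleModule (Dl K C) N] :
    letI := comodOf N
    IsSimpleComod K C (ofSub N) := by
  let _ := comodOf N
  rw [isSimpleComod_iff]
  exact IsSimpleModule.congr (N := ↥N) (equivSub N)

end Sub

/-- A nontrivial comodule has a simple subcomodule. -/
lemma exists_simple (V : Type w) [AddCommGroup V] [Module K V] [Comod K C V] [Nontrivial V] :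
    ∃ N : Submodule (Dl K C) (DM K C V), IsSimpleModule (Dl K C) N := by
  classical
  -- a nonzero finite-dimensional subcomodule of minimal dimension
  obtain ⟨v, hv⟩ := exists_ne (0 : V)
  have hex : ∃ n : ℕ, ∃ W : Submodule K V, IsSubcomod (k := K) (A := C) W ∧ W ≠ ⊥ ∧
      Module.Finite K W ∧ Module.finrank K W = n := by
    refine ⟨_, gen K C v, isSubcomod_gen v, ?_, inferInstance, rfl⟩
    intro h
    have := self_mem_gen (k := K) (A := C) v
    rw [h] at this
    exact hv this
  obtain ⟨W, hW, hW0, hWf, hWn⟩ := Nat.find_spec hex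
  refine ⟨toSub W hW, ?_⟩
  rw [← isSimpleSub_iff hW]
  refine ⟨hW, hW0, fun U' hU' hle => ?_⟩
  by_cases h0 : U' = ⊥
  · left; exact h0
  · right
    have : Module.Finite K U' := Submodule.finiteDimensional_of_le hle
    have h1 : Nat.find hex ≤ Module.finrank K U' := Nat.find_min' hex ⟨U', hU', h0, this, rfl⟩
    exact Submodule.eq_of_le_of_finrank_le hle (by rw [hWn]; exact h1)

/-- `C` is a simple coalgebra iff the regular comodule is isotypic. -/
theorem simple_iff [Nontrivial C] :
    (∀ B : Submodule K C, IsSubcoalg B → B = ⊥ ∨ B = ⊤) ↔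
    ∃ (E : Type v) (_ : AddCommGroup E) (_ : Module K E) (_ : Comod K C E),
      IsSimpleComod K C E ∧
      ∃ (ι : Type v) (f : ι → (E →ₗ[K] C)),
        (∀ i, Hoch.IsComodHom C (f i) ∧ Function.Injective (f i)) ∧
        iSupIndep (fun i => LinearMap.range (f i)) ∧ (⨆ i, LinearMap.range (f i)) = ⊤ := by
  constructor
  · intro h
    obtain ⟨N, hN⟩ := exists_simple (K := K) (C := C) C
    have hfi : (isotypicComponent (Dl K C) (DM K C C) N).IsFullyInvariant :=
      Submodule.IsFullyInvariant.isotypicComponent (Dl K C) (DM K C C) N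
    have htop : isotypicComponent (Dl K C) (DM K C C) N = ⊤ := by
      rcases h _ ((isFullyInvariant_iff _).1 hfi) with h' | h'
      · exact absurd (ofSub_injective h') (bot_lt_isotypicComponent N).ne'
      · exact ofSub_injective h'
    have hss : IsSemisimpleModule (Dl K C) (DM K C C) := by
      have h1 : IsSemisimpleModule (Dl K C)
        (isotypicComponent (Dl K C) (DM K C C) N) := inferInstance
      rw [htop] at h1
      exact IsSemisimpleModule.congr (M := ↥(⊤ : Submodule (Dl K C) (DM K C C)))
        (Submodule.topEquiv (R := Dl K C) (M := DM K C C)).symm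
    have hiso : IsIsotypicOfType (Dl K C) (DM K C C) N :=
      IsIsotypicOfType.of_isotypicComponent_eq_top htop
    obtain ⟨s, h1, h2, h3⟩ :=
      IsSemisimpleModule.exists_sSupIndep_sSup_simples_eq_top (Dl K C) (DM K C C)
    let _ := comodOf N
    refine ⟨ofSub N, inferInstance, inferInstance, comodOf N, isSimpleComod_of N, s, ?_⟩
    have he : ∀ m : s, Nonempty (N ≃ₗ[Dl K C] m.1) := fun m =>
      have := h3 m.1 m.2
      ⟨(hiso m.1).some.symm⟩
    let g : ∀ m : s, DM K C (ofSub N) →ₗ[Dl K C] DM K C C := fun m =>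
      m.1.subtype ∘ₗ ((he m).some.toLinearMap ∘ₗ (equivSub N).toLinearMap)
    have hg : ∀ m : s, LinearMap.range (g m) = m.1 := by
      intro m
      apply le_antisymm
      · rintro _ ⟨x, rfl⟩
        exact Subtype.property _
      · intro x hx
        obtain ⟨y, hy⟩ := (he m).some.surjective ⟨x, hx⟩
        obtain ⟨z, rfl⟩ := (equivSub N).surjective y
        exact ⟨z, congrArg Subtype.val hy⟩
    have hg' : ∀ m : s, LinearMap.range (ofHom (g m)) = ofSub m.1 := by
      intro m
      rw [← hg m]
      rfl
    refine ⟨fun m => ofHom (g m), fun m => ⟨isComodHom_ofHom (g m), ?_⟩, ?_, ?_⟩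
    · intro x y hxy
      apply (equivSub N).injective
      apply (he m).some.injective
      exact Subtype.ext hxy
    · simp only [hg']
      rw [iSupIndep_ofSub]
      exact (sSupIndep_iff s).1 h1
    · simp only [hg']
      rw [← ofSub_iSup, ← sSup_eq_iSup', h2, ofSub_top]
  · rintro ⟨E, _, _, _, hE, ι, f, hf, -, hsup⟩ B hB
    have hEs : IsSimpleModule (Dl K C) (DM K C E) := (isSimpleComod_iff K C E).1 hE
    let F : ∀ i, DM K C E →ₗ[Dl K C] DM K C C := fun i => toHom (f i) (hf i).1
    have hF : ∀ i, Function.Injective (F i) := fun i => (hf i).2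
    let s : Set (Submodule (Dl K C) (DM K C C)) := Set.range fun i => LinearMap.range (F i)
    have hs : sSup s = ⊤ := by
      rw [sSup_range]
      apply ofSub_injective
      rw [ofSub_iSup, ofSub_top, ← hsup]
      rfl
    have hsimple : ∀ m : s, IsSimpleModule (Dl K C) m.1 := by
      rintro ⟨_, i, rfl⟩
      exact IsSimpleModule.congr (LinearEquiv.ofInjective (F i) (hF i)).symm
    have hss : IsSemisimpleModule (Dl K C) (DM K C C) :=
      isSemisimpleModule_of_isSemisimpleModule_submodule' (p := fun m : s => m.1)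
        (fun m => by have := hsimple m; infer_instance) (by rw [← sSup_eq_iSup']; exact hs)
    have hiso : IsIsotypicOfType (Dl K C) (DM K C C) (DM K C E) := by
      intro m hm
      obtain ⟨S, ⟨i, rfl⟩, ⟨e⟩⟩ := m.linearEquiv_of_sSup_eq_top s hs
      exact ⟨e.trans (LinearEquiv.ofInjective (F i) (hF i)).symm⟩
    have hBsub := ((isSubcoalg_iff B).1 hB).1
    have hBfi : (toSub B hBsub).IsFullyInvariant := (isFullyInvariant_iff _).2 hB
    rcases isIsotypic_iff_isFullyInvariant_imp_bot_or_top.1 hiso.isIsotypic _ hBfi with h | h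
    · left; exact (toSub_eq_bot hBsub).1 h
    · right; exact (toSub_eq_top hBsub).1 h

section Coeff

variable {E : Type w} [AddCommGroup E] [Module K E] [Comod K C E]

/-- The coefficient space is the sum of the ranges of the coefficient maps. -/
lemma coeff_eq {D : Submodule K C}
    (hD : IsLeast {D' : Submodule K C | ∀ e : E, Comod.coact (k := K) (A := C) e ∈
      LinearMap.range (LinearMap.lTensor E D'.subtype)} D) :
    D = ⨆ φ : E →ₗ[K] K, LinearMap.range (coeffMap C φ) := by
  apply le_antisymm
  · apply hD.2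
    intro e
    rw [mem_range_lTensor_iff]
    intro φ
    exact (le_iSup (fun φ : E →ₗ[K] K => LinearMap.range (coeffMap C φ)) φ) ⟨e, rfl⟩
  · refine iSup_le fun φ => ?_
    rintro _ ⟨e, rfl⟩
    exact (mem_range_lTensor_iff D _).1 (hD.1 e) φ

lemma coeffMap_injective (hE : IsSimpleComod K C E) {φ : E →ₗ[K] K} (hφ : φ ≠ 0) :
    Function.Injective (coeffMap C φ) := by
  refine (isComodHom_coeffMap φ).simple_or hE ?_
  intro h
  apply hφ
  ext e
  rw [← counit_coeffMap (A := C) φ e, h]
  simp

variable {E' : Type w'} [AddCommGroup E'] [Module K E'] [Comod K C E']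

/-- Simple comodules with the same coefficient space are isomorphic. -/
theorem exists_iso (hE : IsSimpleComod K C E) (hE' : IsSimpleComod K C E')
    (h : (⨆ φ : E →ₗ[K] K, LinearMap.range (coeffMap C φ)) =
      ⨆ φ : E' →ₗ[K] K, LinearMap.range (coeffMap C φ)) :
    ∃ e : E ≃ₗ[K] E', Hoch.IsComodHom C e.toLinearMap := by
  have h1 := hE.1
  have h1' := hE'.1
  obtain ⟨x, hx⟩ := exists_ne (0 : E)
  obtain ⟨φ₀, hφ₀⟩ : ∃ φ : E →ₗ[K] K, φ x ≠ 0 := by
    by_contra hcon
    push Not at hcon
    exact hx ((Module.forall_dual_apply_eq_zero_iff K x).1 hcon)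
  have hφ0 : φ₀ ≠ 0 := fun h => hφ₀ (by rw [h]; rfl)
  have hEs : IsSimpleModule (Dl K C) (DM K C E) := (isSimpleComod_iff K C E).1 hE
  have hEs' : IsSimpleModule (Dl K C) (DM K C E') := (isSimpleComod_iff K C E').1 hE'
  let F : (E' →ₗ[K] K) → (DM K C E' →ₗ[Dl K C] DM K C C) := fun φ =>
    toHom (coeffMap C φ) ((isComodHom_iff _).2 (isComodHom_coeffMap φ))
  let F₀ : DM K C E →ₗ[Dl K C] DM K C C :=
    toHom (coeffMap C φ₀) ((isComodHom_iff _).2 (isComodHom_coeffMap φ₀))
  have hF₀ : Function.Injective F₀ := coeffMap_injective hE hφ0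
  let s : Set (Submodule (Dl K C) (DM K C C)) :=
    {m | ∃ φ : E' →ₗ[K] K, φ ≠ 0 ∧ m = LinearMap.range (F φ)}
  have hsimple : ∀ m : s, IsSimpleModule (Dl K C) m.1 := by
    rintro ⟨_, φ, hφ, rfl⟩
    exact IsSimpleModule.congr
      (LinearEquiv.ofInjective (F φ) (coeffMap_injective hE' hφ)).symm
  have hN : IsSimpleModule (Dl K C) (LinearMap.range F₀) :=
    IsSimpleModule.congr (LinearEquiv.ofInjective F₀ hF₀).symm
  have hle : LinearMap.range F₀ ≤ sSup s := by
    have h2 : LinearMap.range (coeffMap C φ₀) ≤ ofSub (sSup s) := by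
      refine (le_iSup (fun φ : E →ₗ[K] K => LinearMap.range (coeffMap C φ)) φ₀).trans ?_
      rw [h]
      refine iSup_le fun φ => ?_
      by_cases hφ : φ = 0
      · subst hφ
        rintro _ ⟨e, rfl⟩
        have : coeffMap C (0 : E' →ₗ[K] K) e = 0 := by
          rw [coeffMap_apply]
          simp
        rw [this]
        exact Submodule.zero_mem _
      · have h3 : LinearMap.range (F φ) ≤ sSup s := le_sSup ⟨φ, hφ, rfl⟩
        intro y hy
        exact h3 hy
    intro y hy
    exact h2 hy
  obtain ⟨S, ⟨φ, hφ, rfl⟩, ⟨e⟩⟩ := (LinearMap.range F₀).linearEquiv_of_le_sSup s hle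
  let e' : DM K C E ≃ₗ[Dl K C] DM K C E' :=
    (LinearEquiv.ofInjective F₀ hF₀).trans
      (e.trans (LinearEquiv.ofInjective (F φ) (coeffMap_injective hE' hφ)).symm)
  exact ⟨ofEquiv e', isComodHom_ofEquiv e'⟩

end Coeff

end K190.Isotyp

end
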