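import Groth.Agent.Books.ComodPoints
import Groth.Agent.Books.PointsAC
import Groth.Agent.Books.DualAct
import Groth.Agent.Books.ComodHom
import Groth.Agent.Books.ComodTrig
import Mathlib.LinearAlgebra.Eigenspace.Pi
import Mathlib.LinearAlgebra.Eigenspace.Semisimple
import Mathlib.RingTheory.HopfAlgebra.Convolution

/-!
# Commutative groups of semisimple elements are diagonalizable
-/

set_option autoImplicit false

universe u v w

open TensorProduct HopfRep

namespace K190.SsComm

open Groth.Agent.Books Groth.Agent.Books.ComodBasic Groth.Agent.Books.ComodHom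
  Groth.Agent.Books.ComodPoints

variable {k : Type u} [Field k] {A : Type v} [CommRing A] [HopfAlgebra k A]

/-- A common eigenvector of the points in the regular comodule is a multiple of a group-like element. -/
theorem mem_span_of_eigen (hsep : ∀ a : A, (∀ g : A →ₐ[k] k, g a = 0) → a = 0) {V : Submodule k A}
    (hV : IsSubcomod (k := k) (A := A) V) (v : V)
    (h : letI := subComod V hV; ∀ g : A →ₐ[k] k, ∃ c : k, Comod.act k A V g v = c • v) :
    (v : A) ∈ Submodule.span k {a : A | IsGroupLikeElem k a} := by
  let _ := subComod V hV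
  by_cases hv : v = 0
  · rw [hv]; exact zero_mem _
  have h1 : IsSubcomod (k := k) (A := A) (Submodule.span k {v}) := by
    refine isSubcomod_of_stable hsep _ ?_
    intro g w hw
    obtain ⟨c, rfl⟩ := Submodule.mem_span_singleton.1 hw
    obtain ⟨d, hd⟩ := h g
    rw [map_smul, hd]
    exact Submodule.smul_mem _ _ (Submodule.smul_mem _ _ (Submodule.mem_span_singleton_self v))
  obtain ⟨a, ha⟩ := exists_coact_eq_tmul h1
  have hg := DualAct.isGroupLikeElem_of_coact_eq_tmul hv ha
  -- in the regular comodule
  have h2 : CoalgebraStruct.comul (R := k) (v : A) = (v : A) ⊗ₜ[k] a := by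
    have h3 := isComodHom_subtype V hV v
    have h4 : CoalgebraStruct.comul (R := k) (v : A) =
      V.subtype.rTensor A (Comod.coact (k := k) (A := A) v) := h3
    rw [h4, ha]
    rfl
  have h5 := Coalgebra.rTensor_counit_comul (R := k) (v : A)
  rw [h2, LinearMap.rTensor_tmul] at h5
  have h6 := congrArg (TensorProduct.lid k A) h5
  rw [TensorProduct.lid_tmul, TensorProduct.lid_tmul, one_smul] at h6
  rw [← h6]
  exact Submodule.smul_mem _ _ (Submodule.subset_span hg)

/-- If the points commute and act semisimply then `A` is diagonalizable. -/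
theorem isDiagonalizable_of_commute [IsAlgClosed k] [Algebra.FiniteType k A] [IsReduced A]
    (hcomm : ∀ g h : WithConv (A →ₐ[k] k), g * h = h * g)
    (hss : ∀ (g : A →ₐ[k] k) (V : Type v) [AddCommGroup V] [Module k V] [HopfRep.Comod k A V],
      Module.Finite k V → Module.End.IsSemisimple (HopfRep.Comod.act k A V g)) :
    HopfRep.IsDiagonalizable k A := by
  have hsep : ∀ a : A, (∀ g : A →ₐ[k] k, g a = 0) → a = 0 := PointsAC.eq_zero_of_forall_point (k := k) A
  change Submodule.span k {a : A | IsGroupLikeElem k a} = ⊤
  rw [eq_top_iff]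
  intro a _
  obtain ⟨V, hV, hfin, hle⟩ := exists_finite_isSubcomod_ge (k := k) (A := A) (V := A) (Submodule.span k {a})
  have haV : a ∈ V := hle (Submodule.mem_span_singleton_self a)
  let _ := subComod V hV
  have h1 := Module.End.iSup_iInf_maxGenEigenspace_eq_top_of_iSup_maxGenEigenspace_eq_top_of_commute
    (fun g : WithConv (A →ₐ[k] k) => Comod.act k A V g.ofConv) (by
      intro g h _
      change Comod.act k A V g.ofConv ∘ₗ Comod.act k A V h.ofConv =
        Comod.act k A V h.ofConv ∘ₗ Comod.act k A V g.ofConv
      rw [← act_mul, ← act_mul, hcomm])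
    (fun g => Module.End.iSup_maxGenEigenspace_eq_top _)
  have h2 : V ≤ Submodule.span k {a : A | IsGroupLikeElem k a} := by
    have h3 : (⊤ : Submodule k V) ≤ (Submodule.span k {a : A | IsGroupLikeElem k a}).comap V.subtype := by
      rw [← h1, iSup_le_iff]
      intro χ v hv
      rw [Submodule.mem_iInf] at hv
      refine mem_span_of_eigen hsep hV v fun g => ⟨χ (WithConv.toConv g), ?_⟩
      have h4 := hv (WithConv.toConv g)
      rw [(Module.End.isFinitelySemisimple_iff_isSemisimple.mpr
        (hss g V hfin)).maxGenEigenspace_eq_eigenspace, Module.End.mem_eigenspace_iff] at h4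
      exact h4
    intro x hx
    exact h3 (x := ⟨x, hx⟩) trivial
  exact h2 haV

end K190.SsComm
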