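import Groth.Agent.HopfRep.K190.SsComm
import Groth.Agent.Agf.H596.EpiPts
import Groth.Agent.Sga3B.RG.PbBorel
import Groth.Agent.Sga3A.MTBasis
import Mathlib.Algebra.Field.Shrink
import Mathlib.Algebra.Algebra.Shrink

/-!
# Connected groups all of whose points are semisimple
-/

set_option autoImplicit false

universe u v

open TensorProduct HopfRep

namespace K190.SsTorus

open Groth.Agent.Books Groth.Agent.Books.ComodBasic Groth.Agent.Books.ComodHom
  Groth.Agent.Books.ComodPoints

section Diag

variable (k : Type u) [Field k] (A : Type v) [CommRing A] [HopfAlgebra k A]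

/-- The points act diagonalizably on the regular comodule. -/
def Diag : Prop := ∀ g : A →ₐ[k] k, ⨆ μ : k, Module.End.eigenspace (Comod.act k A A g) μ = ⊤

variable {k A}

theorem subtype_act {V : Submodule k A} (hV : IsSubcomod (k := k) (A := A) V) (g : A →ₐ[k] k) (v : V) :
    letI := subComod V hV
    ((Comod.act k A V g v : V) : A) = Comod.act k A A g (v : A) := by
  let _ := subComod V hV
  have h3 := isComodHom_subtype V hV v
  have h4 : Comod.coact (k := k) (A := A) (v : A) =
    V.subtype.rTensor A (Comod.coact (k := k) (A := A) v) := h3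
  rw [act_apply, act_apply, h4]
  generalize Comod.coact (k := k) (A := A) v = y
  induction y with
  | zero => simp
  | add x y hx hy => simp only [map_add, Submodule.coe_add, hx, hy]
  | tmul x a => simp

theorem diag_of_isSemisimple [IsAlgClosed k]
    (hss : ∀ (g : A →ₐ[k] k) (V : Type v) [AddCommGroup V] [Module k V] [HopfRep.Comod k A V],
      Module.Finite k V → Module.End.IsSemisimple (HopfRep.Comod.act k A V g)) : Diag k A := by
  intro g
  rw [eq_top_iff]
  intro a _
  obtain ⟨V, hV, hfin, hle⟩ := exists_finite_isSubcomod_ge (k := k) (A := A) (V := A) (Submodule.span k {a})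
  have haV : a ∈ V := hle (Submodule.mem_span_singleton_self a)
  let _ := subComod V hV
  have h1 : ⨆ μ : k, Module.End.eigenspace (Comod.act k A V g) μ = ⊤ :=
    Module.End.IsSemisimple.iSup_eigenspace_eq_top (hss g V hfin)
  have h2 : (⊤ : Submodule k V) ≤ (⨆ μ : k, Module.End.eigenspace (Comod.act k A A g) μ).comap V.subtype := by
    rw [← h1, iSup_le_iff]
    intro μ v hv
    refine Submodule.mem_iSup_of_mem μ ?_
    rw [Module.End.mem_eigenspace_iff] at hv ⊢
    have h3 := congrArg Subtype.val hv
    rw [subtype_act hV] at h3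
    exact h3
  exact h2 (x := ⟨a, haV⟩) trivial

end Diag

section Core

open Groth.Agent.Sga3B.RG Groth.Agent.Agf.H596.EpiPts
  Groth.Agent.Sga3B.Parab.BorelPts172 Groth.Agent.Sga3B.RG.PbBorel

variable {K : Type u} [Field K] {A : Type u} [CommRing A] [HopfAlgebra K A]

/-- A unipotent point which acts diagonalizably is trivial. -/
theorem eq_one_of_unip {g : Pt K A} (hu : IsUnip g)
    (hss : ⨆ μ : K, Module.End.eigenspace (Comod.act K A A g.ofConv) μ = ⊤) : g = 1 := by
  have hact : (Comod.act K A A g.ofConv : A →ₗ[K] A) = (rTr g).toLinearMap := rfl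
  have h1 : ∀ a : A, rTr g a = a := by
    intro a
    have ha : a ∈ ⨆ μ : K, Module.End.eigenspace (Comod.act K A A g.ofConv) μ := by
      rw [hss]; trivial
    have hle : ⨆ μ : K, Module.End.eigenspace (Comod.act K A A g.ofConv) μ ≤
        LinearMap.ker ((rTr g).toLinearMap - 1) := by
      rw [iSup_le_iff]
      intro μ a ha
      rw [Module.End.mem_eigenspace_iff, hact] at ha
      rw [LinearMap.mem_ker]
      by_cases ha0 : a = 0
      · rw [ha0, map_zero]
      obtain ⟨n, hn⟩ := hu a
      have h2 : ∀ n : ℕ, (((rTr g).toLinearMap - 1) ^ n) a = (μ - 1) ^ n • a := by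
        intro n
        induction n with
        | zero => simp
        | succ n ih =>
          rw [pow_succ', Module.End.mul_apply, ih, map_smul, LinearMap.sub_apply, ha, Module.End.one_apply,
            pow_succ, mul_smul, sub_smul, one_smul]
      rw [h2] at hn
      have h3 : μ - 1 = 0 := by
        rcases smul_eq_zero.1 hn with h | h
        · exact pow_eq_zero_iff (n := n) (by rintro rfl; simp at h) |>.1 h
        · exact absurd h ha0
      have h4 := h2 1
      rw [pow_one, pow_one, h3, zero_smul] at h4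
      exact h4
    have h2 := hle ha
    rw [LinearMap.mem_ker, LinearMap.sub_apply, sub_eq_zero] at h2
    exact h2
  apply Pt.ext'
  intro a
  have h4 := rTr_apply_pt g 1 a
  rw [one_mul, h1 a] at h4
  exact h4.symm

/-- A connected group all of whose points are semisimple is commutative. -/
theorem commute [IsAlgClosed K] [Algebra.FiniteType K A] [IsDomain A] (hss : Diag K A) (g h : Pt K A) :
    g * h = h * g := by
  obtain ⟨P, hP, hE⟩ := exists_isCCS_isEpiSub K A
  -- `P` is commutative
  have h1 : ∀ x ∈ P, ∀ y ∈ P, x * y * x⁻¹ = y := by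
    intro x hx y hy
    have h2 := eq_one_of_unip (isUnip_commutator hP hx hy) (hss _)
    rw [mul_inv_eq_one] at h2
    exact h2
  -- `P` is central
  have h2 : ∀ p ∈ P, ∀ g : Pt K A, g * p * g⁻¹ = p := by
    intro p hp g
    apply Pt.ext'
    intro b
    obtain ⟨a, ha'⟩ := isReg_conjArg p b
    have ha : ∀ g : Pt K A, (g * p * g⁻¹) b = g a := ha'
    have h3 := hE.apply_eq (a := a) (fun x q hq => by
      rw [← ha, ← ha]
      have h4 := h1 q hq p hp
      have h5 : x * q * p * (x * q)⁻¹ = x * (q * p * q⁻¹) * x⁻¹ := by group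
      rw [h5, h4]) g 1
    rw [← ha, ← ha] at h3
    rw [h3]
    simp
  -- everything is central
  have h3 : ∀ g h : Pt K A, g * h * g⁻¹ = h := by
    intro g h
    apply Pt.ext'
    intro b
    obtain ⟨a, ha'⟩ := isReg_conjArg h b
    have ha : ∀ g : Pt K A, (g * h * g⁻¹) b = g a := ha'
    have h3 := hE.apply_eq (a := a) (fun x q hq => by
      rw [← ha, ← ha]
      have h4 := h2 q hq h
      have h7 : q * h * q⁻¹ = h := by
        have h6 : h * q = q * h := by
          conv_rhs => rw [← h4]
          group
        rw [← h6]; group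
      have h5 : x * q * h * (x * q)⁻¹ = x * (q * h * q⁻¹) * x⁻¹ := by group
      rw [h5, h7]) g 1
    rw [← ha, ← ha] at h3
    rw [h3]
    simp
  conv_rhs => rw [← h3 g h]
  group

end Core

section Transfer

variable {k : Type u} [Field k] {K : Type v} [Field K] [Algebra k K] {A : Type v} [CommRing A] [HopfAlgebra k A]

/-- The action of the base change of a point. -/
theorem act_tmul (g : A →ₐ[k] k) (g' : K ⊗[k] A →ₐ[K] K) (h : ∀ a, g' (1 ⊗ₜ a) = algebraMap k K (g a))
    (c : K) (a : A) : Comod.act K (K ⊗[k] A) (K ⊗[k] A) g' (c ⊗ₜ a) = c ⊗ₜ Comod.act k A A g a := by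
  have h1 : c ⊗ₜ[k] a = c • ((1 : K) ⊗ₜ[k] a) := by rw [TensorProduct.smul_tmul', smul_eq_mul, mul_one]
  have h2 : c ⊗ₜ[k] (Comod.act k A A g a) = c • ((1 : K) ⊗ₜ[k] (Comod.act k A A g a)) := by
    rw [TensorProduct.smul_tmul', smul_eq_mul, mul_one]
  rw [h1, h2, map_smul]
  congr 1
  rw [act_apply, act_apply]
  have h3 : Comod.coact (k := K) (A := K ⊗[k] A) ((1 : K) ⊗ₜ[k] a) =
      TensorProduct.AlgebraTensorModule.distribBaseChange k K A A (1 ⊗ₜ CoalgebraStruct.comul (R := k) a) :=
    Groth.Agent.Sga3A.MTBasis.comul_one_tmul a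
  have h4 : Comod.coact (k := k) (A := A) a = CoalgebraStruct.comul (R := k) a := rfl
  rw [h3, h4]
  generalize CoalgebraStruct.comul (R := k) a = y
  induction y using TensorProduct.induction_on with
  | zero => simp
  | tmul x y =>
    rw [TensorProduct.AlgebraTensorModule.distribBaseChange_tmul, LinearMap.lTensor_tmul, TensorProduct.rid_tmul,
      LinearMap.lTensor_tmul, TensorProduct.rid_tmul]
    change g' (1 ⊗ₜ y) • ((1 : K) ⊗ₜ[k] x) = 1 ⊗ₜ (g y • x)
    rw [h, algebraMap_smul, TensorProduct.tmul_smul]
  | add x y hx hy => simp only [map_add, TensorProduct.tmul_add, hx, hy]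

theorem diag_baseChange (hb : Function.Bijective (algebraMap k K)) (h : Diag k A) : Diag K (K ⊗[k] A) := by
  intro g'
  let e : k ≃ₐ[k] K := AlgEquiv.ofBijective (Algebra.ofId k K) hb
  let g : A →ₐ[k] k := (e.symm : K →ₐ[k] k).comp ((g'.restrictScalars k).comp Algebra.TensorProduct.includeRight)
  have hg : ∀ a, g' (1 ⊗ₜ a) = algebraMap k K (g a) := by
    intro a
    have h1 : e (g a) = g' (1 ⊗ₜ a) := e.apply_symm_apply _
    exact h1.symm
  rw [eq_top_iff]
  intro x _
  induction x using TensorProduct.induction_on with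
  | zero => exact zero_mem _
  | add x y hx hy => exact add_mem (hx trivial) (hy trivial)
  | tmul c a =>
    have h1 : c ⊗ₜ[k] a = c • ((1 : K) ⊗ₜ[k] a) := by rw [TensorProduct.smul_tmul', smul_eq_mul, mul_one]
    rw [h1]
    refine Submodule.smul_mem _ _ ?_
    have h2 : (⊤ : Submodule k A) ≤ ((⨆ μ : K, Module.End.eigenspace
        (Comod.act K (K ⊗[k] A) (K ⊗[k] A) g') μ).restrictScalars k).comap (TensorProduct.mk k K A 1) := by
      rw [← h g, iSup_le_iff]
      intro μ a ha
      refine Submodule.mem_iSup_of_mem (algebraMap k K μ) ?_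
      rw [Module.End.mem_eigenspace_iff] at ha ⊢
      rw [TensorProduct.mk_apply, act_tmul g g' hg, ha, algebraMap_smul, TensorProduct.tmul_smul]
    exact h2 (x := a) trivial

/-- Base change of points. -/
theorem commute_of_baseChange
    (hc : ∀ g h : WithConv (K ⊗[k] A →ₐ[K] K), g * h = h * g) (g h : WithConv (A →ₐ[k] k)) : g * h = h * g := by
  let bc : WithConv (A →ₐ[k] k) → WithConv (K ⊗[k] A →ₐ[K] K) := fun g =>
    WithConv.toConv (Algebra.TensorProduct.lift (Algebra.ofId K K) ((Algebra.ofId k K).comp g.ofConv)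
      (fun _ _ => .all _ _))
  have hbc : ∀ (g : WithConv (A →ₐ[k] k)) (a : A), (bc g).ofConv (1 ⊗ₜ a) = algebraMap k K (g.ofConv a) := by
    intro g a
    change Algebra.TensorProduct.lift (Algebra.ofId K K) ((Algebra.ofId k K).comp g.ofConv)
      (fun _ _ => .all _ _) (1 ⊗ₜ a) = _
    rw [Algebra.TensorProduct.lift_tmul, map_one, one_mul]
    rfl
  have hmul : ∀ (g h : WithConv (A →ₐ[k] k)) (a : A), (bc g * bc h).ofConv (1 ⊗ₜ a) =
      algebraMap k K ((g * h).ofConv a) := by
    intro g h a
    rw [AlgHom.convMul_apply, AlgHom.convMul_apply, Groth.Agent.Sga3A.MTBasis.comul_one_tmul]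
    generalize CoalgebraStruct.comul (R := k) a = y
    induction y using TensorProduct.induction_on with
    | zero => simp
    | tmul x y =>
      have h1 : ∀ s t : K ⊗[k] A, Algebra.TensorProduct.lift (bc g).ofConv (bc h).ofConv (fun _ _ => .all _ _)
          (s ⊗ₜ[K] t) = (bc g).ofConv s * (bc h).ofConv t := fun s t => Algebra.TensorProduct.lift_tmul _ _ _ s t
      have h2 : Algebra.TensorProduct.lift g.ofConv h.ofConv (fun _ _ => .all _ _)
          (x ⊗ₜ[k] y) = g.ofConv x * h.ofConv y := Algebra.TensorProduct.lift_tmul _ _ _ x y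
      rw [TensorProduct.AlgebraTensorModule.distribBaseChange_tmul, h1, h2, hbc, hbc, map_mul]
    | add x y hx hy => simp only [map_add, TensorProduct.tmul_add, hx, hy]
  apply WithConv.ofConv_injective
  apply AlgHom.ext
  intro a
  apply (algebraMap k K).injective
  rw [← hmul, ← hmul, hc]

open Polynomial in
theorem isAlgClosed_of_ringEquiv {k : Type u} {k' : Type v} [Field k] [Field k'] (e : k ≃+* k')
    [IsAlgClosed k] : IsAlgClosed k' := by
  apply IsAlgClosed.of_exists_root
  intro p hmp hp
  have hpe : degree (p.map e.symm.toRingHom) ≠ 0 := by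
    rw [degree_map]
    exact ne_of_gt (degree_pos_of_irreducible hp)
  rcases IsAlgClosed.exists_root (k := k) (p.map e.symm.toRingHom) hpe with ⟨x, hx⟩
  use e x
  rw [IsRoot] at hx
  apply e.symm.injective
  rw [map_zero, ← hx]
  clear hx hpe hp hmp
  induction p using Polynomial.induction_on <;> simp_all

end Transfer

end K190.SsTorus
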