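import Groth.Prelude.Def_CoactBr2
import Groth.Prelude.Def_GLin
import Groth.Prelude.Def_Hoch
import Mathlib.RingTheory.TensorProduct.Maps

/-!
# Base change of total integrals
-/

set_option autoImplicit false

universe u v w w'

open TensorProduct

noncomputable section

namespace K190.TameBC

theorem exists_baseChange
    (R : Type u) (S : Type v) (A : Type w) (B : Type w')
    [CommRing R] [CommRing S] [Algebra R S] [CommRing A] [HopfAlgebra R A]
    [CommRing B] [Algebra R B] [HopfRep.Comod R A B]
    (htame : ∃ α : A →ₗ[R] B, Hoch.IsComodHom A α ∧ α 1 = 1) :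
    ∃ α' : TensorProduct R S A →ₗ[S] TensorProduct R S B,
      @Hoch.IsComodHom S _ (TensorProduct R S A) _ _ _ (TensorProduct R S A) _ _
        (HopfRep.Comod.regular S (TensorProduct R S A)) (TensorProduct R S B) _ _
        (CoactBr.Comod.baseChange R S A B) α' ∧ α' 1 = 1 := by
  obtain ⟨α, hα, h1⟩ := htame
  refine ⟨TensorProduct.AlgebraTensorModule.map LinearMap.id α, ?_, ?_⟩
  · unfold Hoch.IsComodHom
    apply TensorProduct.AlgebraTensorModule.ext
    intro s a
    simp only [LinearMap.comp_apply, TensorProduct.AlgebraTensorModule.map_tmul,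
      LinearMap.id_apply]
    rw [CoactBr.baseChange_coact_tmul]
    have hα' : HopfRep.Comod.coact (k := R) (A := A) (α a) =
        α.rTensor A (CoalgebraStruct.comul (R := R) a) := LinearMap.congr_fun hα a
    have e1 : @HopfRep.Comod.coact S (TensorProduct R S A) _ _ _ _ (TensorProduct R S A) _ _
        (HopfRep.Comod.regular S (TensorProduct R S A)) (s ⊗ₜ[R] a) =
        TensorProduct.AlgebraTensorModule.tensorTensorTensorComm R S R S S S A A
        (((1 : S) ⊗ₜ[S] s) ⊗ₜ[R] CoalgebraStruct.comul (R := R) a) := rfl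
    rw [hα', e1]
    generalize CoalgebraStruct.comul (R := R) a = w
    induction w using TensorProduct.induction_on with
    | zero => simp
    | add x y hx hy => simp only [map_add, TensorProduct.tmul_add, hx, hy]
    | tmul x y =>
      simp only [LinearMap.rTensor_tmul,
        TensorProduct.AlgebraTensorModule.tensorTensorTensorComm_tmul,
        TensorProduct.AlgebraTensorModule.map_tmul, LinearMap.id_apply]
  · rw [Algebra.TensorProduct.one_def, TensorProduct.AlgebraTensorModule.map_tmul, h1]
    rfl

section Desc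

variable (R : Type u) (S : Type v) (A : Type w) (B : Type w')
  [CommRing R] [CommRing S] [Algebra R S] [CommRing A] [HopfAlgebra R A]
  [CommRing B] [Algebra R B] [Algebra S B] [IsScalarTower R S B]

/-- multiplication `S ⊗ B → B`. -/
def mB : S ⊗[R] B →ₐ[S] B :=
  Algebra.TensorProduct.lift (Algebra.ofId S B) (AlgHom.id R B) (fun _ _ => Commute.all _ _)

/-- `S ⊗ A → B ⊗ A`. -/
def mA : S ⊗[R] A →ₐ[S] B ⊗[R] A :=
  Algebra.TensorProduct.lift (Algebra.ofId S (B ⊗[R] A)) Algebra.TensorProduct.includeRight
    (fun _ _ => Commute.all _ _)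

/-- `(S ⊗ B) ⊗_S (S ⊗ A) → B ⊗ A`. -/
def Phi : (S ⊗[R] B) ⊗[S] (S ⊗[R] A) →ₐ[S] B ⊗[R] A :=
  Algebra.TensorProduct.lift
    ((Algebra.TensorProduct.includeLeft : B →ₐ[S] B ⊗[R] A).comp (mB R S B)) (mA R S A B)
    (fun _ _ => Commute.all _ _)

variable [HopfRep.Comod R A B] [GLin.IsCoactAlg R A B]

lemma Phi_coact (hS : ∀ s : S, HopfRep.Comod.coact (k := R) (A := A) (algebraMap S B s) =
    algebraMap S B s ⊗ₜ[R] (1 : A)) (z : S ⊗[R] B) :
    Phi R S A B ((CoactBr.Comod.baseChange R S A B).coact z) =
      HopfRep.Comod.coact (k := R) (A := A) (mB R S B z) := by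
  induction z using TensorProduct.induction_on with
  | zero => simp
  | add x y hx hy => simp only [map_add, hx, hy]
  | tmul s b =>
    rw [CoactBr.baseChange_coact_tmul]
    have e1 : mB R S B (s ⊗ₜ b) = algebraMap S B s * b := by
      simp [mB, Algebra.ofId_apply]
    rw [e1, GLin.IsCoactAlg.coact_mul, hS]
    generalize HopfRep.Comod.coact (k := R) (A := A) b = w
    induction w using TensorProduct.induction_on with
    | zero => simp
    | add x y hx hy => simp only [map_add, TensorProduct.tmul_add, hx, hy, mul_add]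
    | tmul x y =>
      simp only [TensorProduct.AlgebraTensorModule.tensorTensorTensorComm_tmul, Phi,
        Algebra.TensorProduct.lift_tmul, AlgHom.comp_apply, mB, mA, Algebra.ofId_apply,
        AlgHom.id_apply, map_one, one_mul, Algebra.TensorProduct.includeLeft_apply,
        Algebra.TensorProduct.includeRight_apply, Algebra.TensorProduct.algebraMap_apply,
        Algebra.TensorProduct.tmul_mul_tmul, mul_one, mul_comm]

theorem exists_descend (hS : ∀ s : S, HopfRep.Comod.coact (k := R) (A := A) (algebraMap S B s) =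
    algebraMap S B s ⊗ₜ[R] (1 : A))
    (h : ∃ β : TensorProduct R S A →ₗ[S] TensorProduct R S B,
      @Hoch.IsComodHom S _ (TensorProduct R S A) _ _ _ (TensorProduct R S A) _ _
        (HopfRep.Comod.regular S (TensorProduct R S A)) (TensorProduct R S B) _ _
        (CoactBr.Comod.baseChange R S A B) β ∧ β 1 = 1) :
    ∃ α : A →ₗ[R] B, Hoch.IsComodHom A α ∧ α 1 = 1 := by
  obtain ⟨β, hβ, h1⟩ := h
  let α : A →ₗ[R] B := (mB R S B).toLinearMap.restrictScalars R ∘ₗ β.restrictScalars R ∘ₗ
    (TensorProduct.mk R S A 1)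
  refine ⟨α, ?_, ?_⟩
  · apply LinearMap.ext
    intro a
    rw [LinearMap.comp_apply, LinearMap.comp_apply]
    change HopfRep.Comod.coact (k := R) (A := A) (mB R S B (β ((1 : S) ⊗ₜ[R] a))) =
      α.rTensor A (CoalgebraStruct.comul (R := R) a)
    rw [← Phi_coact R S A B hS]
    have h2 : (CoactBr.Comod.baseChange R S A B).coact (β ((1 : S) ⊗ₜ[R] a)) =
        β.rTensor (S ⊗[R] A) (TensorProduct.AlgebraTensorModule.tensorTensorTensorComm R S R S S S A A
        (((1 : S) ⊗ₜ[S] (1 : S)) ⊗ₜ[R] CoalgebraStruct.comul (R := R) a)) :=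
      LinearMap.congr_fun hβ ((1 : S) ⊗ₜ[R] a)
    rw [h2]
    generalize CoalgebraStruct.comul (R := R) a = w
    induction w using TensorProduct.induction_on with
    | zero => simp
    | add x y hx hy => simp only [map_add, TensorProduct.tmul_add, hx, hy]
    | tmul x y =>
      simp only [TensorProduct.AlgebraTensorModule.tensorTensorTensorComm_tmul, Phi,
        LinearMap.rTensor_tmul, Algebra.TensorProduct.lift_tmul, AlgHom.comp_apply, mA,
        Algebra.ofId_apply, map_one, one_mul, Algebra.TensorProduct.includeLeft_apply,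
        Algebra.TensorProduct.includeRight_apply, Algebra.TensorProduct.tmul_mul_tmul, mul_one]
      rfl
  · change mB R S B (β ((1 : S) ⊗ₜ[R] (1 : A))) = 1
    rw [← Algebra.TensorProduct.one_def, h1, map_one]

end Desc

end K190.TameBC

end
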