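import Groth.Agent.HopfRep.K191.Integral
import Mathlib.RingTheory.Trace.Basic
import Mathlib.LinearAlgebra.Trace

/-!
# The trace of a finite commutative Hopf algebra is an integral

For a finite-dimensional commutative Hopf algebra `A` over a field `K` the trace form
`Tr : A → K` satisfies `∑ Tr(a₁) a₂ = Tr(a) 1`.  If the dimension is invertible in `K` this gives a
normalised integral.
-/

set_option autoImplicit false

universe u v

open TensorProduct HopfRep

noncomputable section

namespace K190.TraceInt

variable (K : Type u) (A : Type v) [Field K] [CommRing A] [HopfAlgebra K A]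

/-- `y ⊗ x ↦ ∑ y x₂ ⊗ x₁`. -/
def theta : A ⊗[K] A →ₐ[A] A ⊗[K] A :=
  Algebra.TensorProduct.lift (Algebra.ofId A (A ⊗[K] A))
    ((Algebra.TensorProduct.comm K A A).toAlgHom.comp (Bialgebra.comulAlgHom K A))
    (fun _ _ => Commute.all _ _)

lemma theta_tmul (y x : A) :
    theta K A (y ⊗ₜ x) = (y ⊗ₜ[K] (1 : A)) *
      TensorProduct.comm K A A (CoalgebraStruct.comul (R := K) x) := by
  simp only [theta, Algebra.TensorProduct.lift_tmul]
  rfl

/-- `y ⊗ x ↦ ∑ y S(x₂) ⊗ x₁`. -/
def theta' : A ⊗[K] A →ₗ[K] A ⊗[K] A :=
  TensorProduct.comm K A A ∘ₗ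
    (LinearMap.mul' K A ∘ₗ (HopfAlgebraStruct.antipode K (A := A)).lTensor A).lTensor A ∘ₗ
      (TensorProduct.assoc K A A A).toLinearMap ∘ₗ (CoalgebraStruct.comul (R := K) (A := A)).rTensor A

lemma theta_comp_aux (z : A ⊗[K] A) :
    theta K A (TensorProduct.comm K A A
      ((HopfAlgebraStruct.antipode K (A := A)).lTensor A z)) = theta' K A z := by
  induction z using TensorProduct.induction_on with
  | zero => simp
  | add x y hx hy => simp only [map_add, hx, hy]
  | tmul a b =>
    simp only [LinearMap.lTensor_tmul, TensorProduct.comm_tmul, theta_tmul, theta',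
      LinearMap.comp_apply, LinearMap.rTensor_tmul, LinearEquiv.coe_coe]
    generalize CoalgebraStruct.comul (R := K) a = w
    induction w using TensorProduct.induction_on with
    | zero => simp
    | add x y hx hy => simp only [map_add, mul_add, TensorProduct.add_tmul, hx, hy]
    | tmul c d =>
      simp [mul_comm]

lemma theta_section (x : A) :
    theta K A (TensorProduct.comm K A A ((HopfAlgebraStruct.antipode K (A := A)).lTensor A
      (CoalgebraStruct.comul (R := K) x))) = (1 : A) ⊗ₜ[K] x := by
  rw [theta_comp_aux]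
  simp only [theta', LinearMap.comp_apply, LinearEquiv.coe_coe]
  rw [Coalgebra.coassoc_apply, ← LinearMap.lTensor_comp_apply]
  have h1 : (LinearMap.mul' K A ∘ₗ (HopfAlgebraStruct.antipode K (A := A)).lTensor A) ∘ₗ
      (CoalgebraStruct.comul (R := K) (A := A)) =
      Algebra.linearMap K A ∘ₗ (CoalgebraStruct.counit (R := K) (A := A)) := by
    ext a
    exact HopfAlgebra.mul_antipode_lTensor_comul_apply (R := K) a
  rw [h1, LinearMap.lTensor_comp_apply, Coalgebra.lTensor_counit_comul]
  simp

lemma theta_surjective : Function.Surjective (theta K A) := by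
  intro z
  induction z using TensorProduct.induction_on with
  | zero => exact ⟨0, map_zero _⟩
  | add x y hx hy =>
    obtain ⟨a, rfl⟩ := hx
    obtain ⟨b, rfl⟩ := hy
    exact ⟨a + b, map_add _ _ _⟩
  | tmul y x =>
    refine ⟨y • TensorProduct.comm K A A ((HopfAlgebraStruct.antipode K (A := A)).lTensor A
      (CoalgebraStruct.comul (R := K) x)), ?_⟩
    rw [map_smul, theta_section, TensorProduct.smul_tmul', smul_eq_mul, mul_one]

variable [Module.Finite K A]

lemma theta_bijective : Function.Bijective (theta K A) :=
  OrzechProperty.bijective_of_surjective_endomorphism (theta K A).toLinearMap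
    (theta_surjective K A)

lemma trace_tmul (y x : A) :
    Algebra.trace A (A ⊗[K] A) (y ⊗ₜ[K] x) = y * algebraMap K A (Algebra.trace K A x) := by
  have h1 : y ⊗ₜ[K] x = y • ((1 : A) ⊗ₜ[K] x) := by
    rw [TensorProduct.smul_tmul', smul_eq_mul, mul_one]
  rw [h1, map_smul, smul_eq_mul]
  congr 1
  rw [Algebra.trace_apply, Algebra.trace_apply]
  have h2 : LinearMap.mulLeft A ((1 : A) ⊗ₜ[K] x) = (LinearMap.mulLeft K x).baseChange A := by
    ext z
    simp
  have h3 := LinearMap.trace_baseChange (LinearMap.mulLeft K x) A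
  rw [← h2] at h3
  exact h3

lemma trace_eq (z : A ⊗[K] A) :
    Algebra.trace A (A ⊗[K] A) (TensorProduct.comm K A A z) =
      TensorProduct.lid K A ((Algebra.trace K A).rTensor A z) := by
  induction z using TensorProduct.induction_on with
  | zero => simp
  | add x y hx hy => simp only [map_add, hx, hy]
  | tmul a b =>
    simp only [TensorProduct.comm_tmul, trace_tmul, LinearMap.rTensor_tmul,
      TensorProduct.lid_tmul, Algebra.smul_def]
    exact mul_comm _ _

/-- The trace is an integral. -/
theorem isInt_trace : K191.Integral.IsInt (Algebra.trace K A) := by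
  intro a
  apply (TensorProduct.lid K A).injective
  rw [← trace_eq, TensorProduct.lid_tmul]
  have h1 := Algebra.trace_eq_of_algEquiv (AlgEquiv.ofBijective (theta K A) (theta_bijective K A))
    ((1 : A) ⊗ₜ[K] a)
  rw [AlgEquiv.ofBijective_apply, theta_tmul, trace_tmul, one_mul] at h1
  rw [← Algebra.TensorProduct.one_def, one_mul] at h1
  rw [h1, Algebra.smul_def, mul_one]

/-- In characteristic zero a finite commutative Hopf algebra has a normalised integral. -/
theorem exists_isInt [CharZero K] : ∃ α : A →ₗ[K] K, K191.Integral.IsInt α ∧ α 1 = 1 := by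
  have : Nontrivial A := by
    refine ⟨⟨0, 1, fun h => ?_⟩⟩
    have h2 := congrArg (CoalgebraStruct.counit (R := K)) h
    rw [map_zero, Bialgebra.counit_one] at h2
    exact zero_ne_one h2
  have hn : ((Module.finrank K A : ℕ) : K) ≠ 0 := by
    rw [Nat.cast_ne_zero]
    exact (Module.finrank_pos (R := K) (M := A)).ne'
  refine ⟨((Module.finrank K A : ℕ) : K)⁻¹ • Algebra.trace K A, ?_, ?_⟩
  · intro a
    rw [LinearMap.rTensor_smul, LinearMap.smul_apply, isInt_trace K A a, LinearMap.smul_apply,
      TensorProduct.smul_tmul']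
  · have h1 := Algebra.trace_algebraMap (R := K) (S := A) 1
    rw [map_one, nsmul_eq_mul, mul_one] at h1
    rw [LinearMap.smul_apply, h1, smul_eq_mul, inv_mul_cancel₀ hn]

end K190.TraceInt

end
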